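import Cfsg.Agent.BinaryAffine.BlockGroup

/-!
# Binary affine groups: a block has trivial centre

For an irreducible group the members of a block are all the atoms there are: otherwise an atom outside
moves a member, and the atoms with displacements in the sum of the plane and its displacements form either
a configuration too small (characteristic two) or a projective plane with a polarity without absolute
points (odd characteristic).
-/

set_option autoImplicit false
set_option linter.unusedSectionVars false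
set_option linter.style.haveILetI false

namespace CfsgLib.BinaryAffine

variable {H V : Type*} [Group H] [AddCommGroup V] [DistribMulAction H V]

variable (H V) in
/-- No invariant subgroups besides the trivial ones. -/
def Irred : Prop := ∀ X : AddSubgroup V, (∀ h : H, ∀ x ∈ X, h • x ∈ X) → X = ⊥ ∨ X = ⊤

variable [FaithfulSMul H V] [Finite V] [Finite H]

variable (hc : Common H V) (hh : Chr V)
include hc

omit hc in
theorem card_le_of_inf_eq_bot {X Y Z : AddSubgroup V} (h : X ⊓ Y = ⊥) (hX : X ≤ Z) (hY : Y ≤ Z) :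
    Nat.card X * Nat.card Y ≤ Nat.card Z := by
  rw [← card_sup_of_inf_eq_bot h]
  exact AddSubgroup.card_le_of_le (sup_le hX hY)

omit hc in
theorem commute_of_unique {a b : H} (hu : fixd V (a * b * a⁻¹) = fixd V b → a * b * a⁻¹ = b)
    (h : Pres V a b) : a * b = b * a :=
  mul_inv_eq_iff_eq_mul.1 (hu (fixd_conj_eq_of_pres h))

/-- A top stabilising no fixed group of `z` has all its displacements on those of `z`. -/
theorem card_inf_fixd_of_not_pres {r z : H} (hr : IsAtom V r) (hz : IsAtom V z)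
    (h : ¬ Pres V r z) {X : AddSubgroup V} (hX : root V z ≤ X) :
    Nat.card ↥(X ⊓ fixd V r) * Nat.card (root V r) = Nat.card X := by
  have h1 := card_inf_fixd_mul_map (root V z) r
  rw [hz.isTop.root_inf_fixd_eq_bot hc h, AddSubgroup.card_bot, one_mul, hr.card_root_eq hz] at h1
  have h2 : X.map (disp r) = root V r :=
    AddSubgroup.eq_of_le_of_card_ge (map_disp_le_root X r)
      (h1 ▸ AddSubgroup.card_le_of_le (AddSubgroup.map_mono hX))
  rw [← card_inf_fixd_mul_map X r, h2]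

include hh

theorem Block.root_inf_plane {s t : H} (hb : Block V s t) {r : H} (hr : IsAtom V r)
    (hrn : ¬ Mem V s t r) : root V r ⊓ plane V s t = ⊥ :=
  (AddSubgroup.eq_bot_iff_forall _).2 fun w hw => by_contra fun hw0 => by
    obtain ⟨y, hy, hwy⟩ := hb.exists_mem_root hc hh (AddSubgroup.mem_inf.1 hw).2 hw0
    exact hrn ⟨hr, (hr.isTop.fixd_eq_of_root hc hy.1.isTop (AddSubgroup.mem_inf.1 hw).1 hwy hw0) ▸ hy.2⟩

theorem Block.commute_of_pres_mem {s t : H} (hb : Block V s t) {r y : H} (hy : Mem V s t y)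
    (h : Pres V r y) : r * y = y * r :=
  commute_of_unique (fun he => (hb.paired hc hh).unique _ _
    ⟨hy.1.conj r, he ▸ hy.2⟩ hy he) h

omit hc hh in
theorem Block.fixd_ne_of_not_mem {s t r y : H} (hr : IsAtom V r) (hrn : ¬ Mem V s t r)
    (hy : Mem V s t y) : fixd V r ≠ fixd V y :=
  fun he => hrn ⟨hr, he ▸ hy.2⟩

theorem Block.root_le_of_pres_mem {s t : H} (hb : Block V s t) {r y : H} (hr : IsAtom V r)
    (hrn : ¬ Mem V s t r) (hy : Mem V s t y) (h : Pres V r y) :
    root V y ≤ fixd V r ∧ root V r ≤ fixd V y :=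
  ⟨hr.isTop.root_le_of_commute hc hy.1.isTop (Block.fixd_ne_of_not_mem hr hrn hy)
      (hb.commute_of_pres_mem hc hh hy h),
    hy.1.isTop.root_le_of_commute hc hr.isTop (Block.fixd_ne_of_not_mem hr hrn hy).symm
      (hb.commute_of_pres_mem hc hh hy h).symm⟩

/-- An atom outside a block moving one member stabilises exactly one. -/
theorem Block.exists_perp {s t : H} (hb : Block V s t) {r x : H} (hr : IsAtom V r)
    (hrn : ¬ Mem V s t r) (hx : Mem V s t x) (hrx : ¬ Pres V r x) :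
    ∃ z : H, Mem V s t z ∧ Pres V r z ∧ fixd V r ⊓ plane V s t = root V z ∧
      ∀ y : H, Mem V s t y → Pres V r y → y = z := by
  have hcard : Nat.card ↥(fixd V r ⊓ plane V s t) = Nat.card (root V s) := by
    have h1 := card_inf_fixd_of_not_pres hc hr hx.1 hrx (hb.root_mem_le hc hh hx)
    rw [hb.left.card_root_eq hr, hb.card_plane hc, inf_comm] at h1
    exact Nat.eq_of_mul_eq_mul_right Nat.card_pos h1
  have heq : ∀ y : H, Mem V s t y → Pres V r y → fixd V r ⊓ plane V s t = root V y := fun y hy hp =>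
    (AddSubgroup.eq_of_le_of_card_ge
      (le_inf (hb.root_le_of_pres_mem hc hh hr hrn hy hp).1 (hb.root_mem_le hc hh hy))
      (by rw [hcard, hb.left.card_root_eq hy.1])).symm
  obtain ⟨⟨w, hw⟩, hw0⟩ := @exists_ne ↥(fixd V r ⊓ plane V s t)
    (Finite.one_lt_card_iff_nontrivial.1 (hcard ▸ hb.left.one_lt_root)) 0
  have hw0' : w ≠ 0 := fun h => hw0 (Subtype.ext h)
  obtain ⟨z, hz, hwz⟩ := hb.exists_mem_root hc hh (AddSubgroup.mem_inf.1 hw).2 hw0'
  have hpz : Pres V r z :=
    hz.1.isTop.pres_of_fix_root hc hwz hw0' (mem_fixd.1 (AddSubgroup.mem_inf.1 hw).1)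
  refine ⟨z, hz, hpz, heq z hz hpz, fun y hy hp => by_contra fun hne => hw0' ?_⟩
  exact (AddSubgroup.eq_bot_iff_forall _).1
    (hy.1.isTop.root_inf_eq_bot hc hz.1.isTop (hb.mem_ne hc hh hy hz hne)) w
    (AddSubgroup.mem_inf.2 ⟨(heq y hy hp) ▸ hw, hwz⟩)

/-- A member moves an atom outside, unless the centre is trivial. -/
theorem Block.exists_adjacent (hirr : Irred H V) {s t : H} (hb : Block V s t)
    (hC : cen V s t ≠ ⊥) :
    ∃ u x : H, IsAtom V u ∧ ¬ Mem V s t u ∧ Mem V s t x ∧ ¬ Pres V u x := by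
  by_contra hno
  push Not at hno
  set C := cen V s t with hCdef
  set W := plane V s t with hWdef
  have hCW : ∀ {v : V}, v ∈ C → v ∈ W → v = 0 := fun h1 h2 =>
    (AddSubgroup.eq_bot_iff_forall _).1 (hb.cen_inf_plane hc hh) _ (AddSubgroup.mem_inf.2 ⟨h1, h2⟩)
  have hout : ∀ u : H, IsAtom V u → ¬ Mem V s t u → root V u ≤ C ∧ W ≤ fixd V u := fun u hu hn =>
    ⟨le_inf (hb.root_le_of_pres_mem hc hh hu hn hb.mem_left (hno u s hu hn hb.mem_left)).2
        (hb.root_le_of_pres_mem hc hh hu hn hb.mem_right (hno u t hu hn hb.mem_right)).2,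
      sup_le (hb.root_le_of_pres_mem hc hh hu hn hb.mem_left (hno u s hu hn hb.mem_left)).1
        (hb.root_le_of_pres_mem hc hh hu hn hb.mem_right (hno u t hu hn hb.mem_right)).1⟩
  -- the images of the plane lie in it or in the centre
  have hdich : ∀ k : H, (∀ w ∈ W, k • w ∈ W) ∨
      ((∀ w ∈ W, k • w ∈ C) ∧ W ≤ fixd V (k * s * k⁻¹)) := by
    intro k
    have hb' := hb.conj hc k
    have himg : ∀ w ∈ W, k • w ∈ plane V (k * s * k⁻¹) (k * t * k⁻¹) := by
      intro w hw
      obtain ⟨a, ha, b, hb'', rfl⟩ := AddSubgroup.mem_sup.1 hw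
      rw [smul_add]
      exact AddSubgroup.add_mem_sup (mem_root_conj ha) (mem_root_conj hb'')
    by_cases h1 : Mem V s t (k * s * k⁻¹)
    · have h2 : Mem V s t (k * t * k⁻¹) := by_contra fun h2 =>
        (hb'.symm hc).not_pres (hno _ _ (hb.right.conj k) h2 h1)
      left
      intro w hw
      rw [hWdef, ← hb.sup_root_eq hc hh h1 h2 fun he => hb'.fixd_ne (by rw [he])]
      exact himg w hw
    · have h2 : ¬ Mem V s t (k * t * k⁻¹) := fun h2 =>
        hb'.not_pres (hno _ _ (hb.left.conj k) h1 h2)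
      exact Or.inr ⟨fun w hw => sup_le (hout _ (hb.left.conj k) h1).1
        (hout _ (hb.right.conj k) h2).1 (himg w hw), (hout _ (hb.left.conj k) h1).2⟩
  have hW : W ≠ ⊥ ∧ W ≠ ⊤ := by
    obtain ⟨r, hr, hr0⟩ := exists_root_ne_zero (V := V) hb.left.1
    refine ⟨fun h => hr0 (AddSubgroup.mem_bot.1 (h ▸ AddSubgroup.mem_sup_left hr)),
      fun h => hC ((AddSubgroup.eq_bot_iff_forall _).2 fun v hv => hCW hv (h ▸ AddSubgroup.mem_top v))⟩
  obtain ⟨k, hk⟩ : ∃ k : H, ¬ ∀ w ∈ W, k • w ∈ W := by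
    by_contra hall
    push Not at hall
    rcases hirr W hall with h | h
    exacts [hW.1 h, hW.2 h]
  obtain ⟨a, ha, ha0⟩ := exists_root_ne_zero (V := V) hb.right.1
  have haW : a ∈ W := AddSubgroup.mem_sup_right ha
  have hsa : s • a ≠ a := fun h => ha0 ((AddSubgroup.eq_bot_iff_forall _).1
    (hb.root_inf_fixd hc) a (AddSubgroup.mem_inf.2 ⟨ha, mem_fixd.2 h⟩))
  obtain ⟨m, hma, hmb, -⟩ := exists_swap hc k a
  rw [← hma] at hmb
  have hkaC : k • a ∈ C := ((hdich k).resolve_left hk).1 a haW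
  have hmW : ¬ ∀ w ∈ W, m • w ∈ W := fun hall => ha0 (smul_left_cancel k (by
    rw [smul_zero]; exact hCW hkaC (hma ▸ hall a haW)))
  obtain ⟨hmC, hs'⟩ := (hdich m).resolve_left hmW
  set s' := m * s * m⁻¹ with hs'def
  have hsW : ∀ {w}, w ∈ W → s • w ∈ W := fun hw => hb.smul_mem_plane hc hh hb.mem_left hw
  have hsC : ∀ {c}, c ∈ C → s • c = c := fun hc' => mem_fixd.1 ((inf_le_left : C ≤ fixd V s) hc')
  have hs'm : ∀ w : V, s' • m • w = m • s • w := fun w => by
    rw [hs'def, mul_smul, mul_smul, inv_smul_smul]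
  set y := s • a + m • a with hy
  have hgy : (s * s') • y = a + m • s • a := by
    rw [hy, mul_smul, smul_add, mem_fixd.1 (hs' (hsW haW)), hs'm, smul_add, ← mul_smul s s,
      hb.left.isTop.mul_self hc, one_smul, hsC (hmC _ (hsW haW))]
  have hmy : m • y = a + m • s • a := by rw [hy, smul_add, hmb, add_comm]
  obtain ⟨m0, hm0y, -, hm0g, hm0m⟩ := hc (s * s') m y y (by rw [hgy, hmy])
  have hfix : ∀ {z}, z ∈ W → s • z = z → m0 • z = z ∧ m0 • m • z = m • z := fun hz hsz =>
    ⟨hm0g _ (by rw [mul_smul, mem_fixd.1 (hs' hz), hsz]),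
      hm0g _ (by rw [mul_smul, hs'm, hsz, hsC (hmC _ hz)])⟩
  obtain ⟨⟨z, hz⟩, hz0⟩ := @exists_ne ↥(fixd V s ⊓ plane V s t) (Finite.one_lt_card_iff_nontrivial.1
    ((hb.card_fixd_inf_plane hc hh hb.mem_left) ▸ hb.left.one_lt_root)) 0
  obtain ⟨hzs, hzW⟩ := AddSubgroup.mem_inf.1 hz
  have hz0' : z ≠ 0 := fun h => hz0 (Subtype.ext h)
  obtain ⟨h0z, h0mz⟩ := hfix hzW (mem_fixd.1 hzs)
  have h0W : ∀ w ∈ W, m0 • w ∈ W := (hdich m0).resolve_right fun h => hz0' (hCW (h0z ▸ h.1 z hzW) hzW)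
  have h0mW : ∀ w ∈ W, (m⁻¹ * m0 * m) • w ∈ W := (hdich _).resolve_right fun h => hz0'
    (hCW (by
      have := h.1 z hzW
      rwa [mul_smul, mul_smul, h0mz, inv_smul_smul] at this) hzW)
  have h0ma : m0 • m • a ∈ C := by
    have := hmC _ (h0mW a haW)
    rwa [mul_smul, mul_smul, smul_inv_smul] at this
  have hsum : m0 • (a + m • a) = a + m • a := hm0m _ (by rw [smul_add, hmb, add_comm])
  rw [smul_add] at hsum
  have hdiff : m0 • a - a = m • a - m0 • m • a := by
    rw [sub_eq_sub_iff_add_eq_add, hsum, add_comm]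
  have h0a : m0 • a - a = 0 :=
    hCW (hdiff ▸ sub_mem (hmC a haW) h0ma) (sub_mem (h0W a haW) haW)
  have h0ma' : m0 • m • a = m • a := by
    rw [h0a, eq_comm, sub_eq_zero] at hdiff
    exact hdiff.symm
  rw [sub_eq_zero] at h0a
  have h0sa : m0 • s • a = s • a := by
    have h1 := (hfix (add_mem (hsW haW) haW) (by
      rw [smul_add, ← mul_smul, hb.left.isTop.mul_self hc, one_smul, add_comm])).1
    rwa [smul_add, h0a, add_left_inj] at h1
  have hyy : a + m • s • a = s • a + m • a := by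
    rw [← hgy, ← hm0y, hy, smul_add, h0sa, h0ma']
  have hd : a - s • a = m • a - m • s • a := by
    rw [sub_eq_sub_iff_add_eq_add, hyy, add_comm]
  exact hsa (sub_eq_zero.1 (hCW (hd ▸ sub_mem (hmC a haW) (hmC _ (hsW haW)))
    (sub_mem haW (hsW haW)))).symm

/-- Characteristic two: no atom outside moves a member. -/
theorem Block.false_two (h2 : ∀ v : V, v + v = 0) {s t : H} (hb : Block V s t) {u x : H}
    (hu : IsAtom V u) (hun : ¬ Mem V s t u) (hx : Mem V s t x) (hux : ¬ Pres V u x) : False := by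
  classical
  set q := Nat.card (root V s) with hq
  have hqa : ∀ {a : H}, IsAtom V a → Nat.card (root V a) = q := fun ha => hb.left.card_root_eq ha
  set C := cen V s t
  set W := plane V s t with hWdef
  set U := W ⊔ root V u with hUdef
  set O := C ⊓ U with hOdef
  have hWU : W ≤ U := le_sup_left
  have hUcard : Nat.card U = q * q * q := by
    rw [card_sup_of_inf_eq_bot (by rw [inf_comm]; exact hb.root_inf_plane hc hh hu hun),
      hb.card_plane hc, hqa hu]
  have hWO : W ⊓ O = ⊥ := eq_bot_iff.2 (((le_inf (inf_le_right.trans inf_le_left) inf_le_left)).trans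
    (hb.cen_inf_plane hc hh).le)
  have hsup : W ⊔ O = U := le_antisymm (sup_le hWU inf_le_right) fun v hv => by
    obtain ⟨c, hc', w, hw, rfl⟩ :=
      AddSubgroup.mem_sup.1 (hb.cen_sup_plane hc hh ▸ AddSubgroup.mem_top v)
    rw [add_comm]
    exact AddSubgroup.add_mem_sup hw (AddSubgroup.mem_inf.2 ⟨hc', by
      simpa using sub_mem hv (hWU hw)⟩)
  have hOcard : Nat.card O = q := by
    have h := card_sup_of_inf_eq_bot hWO
    rw [hsup, hUcard, hb.card_plane hc, ← hq] at h
    exact (Nat.eq_of_mul_eq_mul_left (Nat.mul_pos Nat.card_pos Nat.card_pos) h).symm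
  have hroot : ∀ {k : H}, Mem V s t k → root V k ≤ U := fun hk => (hb.root_mem_le hc hh hk).trans hWU
  have hplane : ∀ {a z : H}, IsAtom V a → IsAtom V z → root V z ≤ U → ¬ Pres V a z →
      Nat.card ↥(fixd V a ⊓ U) = q * q := fun {a z} ha hz hzU hp => by
    have h := card_inf_fixd_of_not_pres hc ha hz hp hzU
    rw [hqa ha, hUcard, inf_comm] at h
    exact Nat.eq_of_mul_eq_mul_right Nat.card_pos h
  obtain ⟨z, hz, huz, -, hzu⟩ := hb.exists_perp hc hh hu hun hx hux
  have hxz : x ≠ z := fun h => hux (h ▸ huz)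
  have hnp : ∀ {a b : H}, Mem V s t a → Mem V s t b → a ≠ b → ¬ Pres V a b := fun ha hb' hne =>
    hb.not_pres_of_ne hc hh h2 ha hb' (hb.mem_ne hc hh ha hb' hne)
  -- the atom outside fixes `O`
  have hOu : O ≤ fixd V u := by
    obtain ⟨h1, h3⟩ := hb.root_le_of_pres_mem hc hh hu hun hz huz
    have hcard : Nat.card ↥(root V u ⊔ root V z) = q * q := by
      rw [card_sup_of_inf_eq_bot (hu.isTop.root_inf_eq_bot hc hz.1.isTop
        (Block.fixd_ne_of_not_mem hu hun hz)), hqa hu, hqa hz.1]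
    have e1 : root V u ⊔ root V z = fixd V u ⊓ U := AddSubgroup.eq_of_le_of_card_ge
      (le_inf (sup_le (root_le_fixd_of_char_two h2 (hu.isTop.mul_self hc)) h1)
        (sup_le le_sup_right (hroot hz)))
      (by rw [hcard, hplane hu hx.1 (hroot hx) hux])
    have e2 : root V u ⊔ root V z = fixd V z ⊓ U := AddSubgroup.eq_of_le_of_card_ge
      (le_inf (sup_le h3 (root_le_fixd_of_char_two h2 (hz.1.isTop.mul_self hc)))
        (sup_le le_sup_right (hroot hz)))
      (by rw [hcard, hplane hz.1 hx.1 (hroot hx) (hnp hz hx hxz.symm)])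
    calc O ≤ fixd V z ⊓ U := inf_le_inf_right _ hz.2
      _ = fixd V u ⊓ U := e2.symm.trans e1
      _ ≤ fixd V u := inf_le_left
  set P := fixd V x ⊓ U with hPdef
  have hPcard : Nat.card P = q * q := by
    obtain ⟨y, hy, hyx⟩ := hb.exists_mem_ne hc x
    exact hplane hx.1 hy.1 (hroot hy) (hnp hx hy hyx.symm)
  have hRxO : root V x ⊓ O = ⊥ :=
    eq_bot_iff.2 ((inf_le_inf_right _ (hb.root_mem_le hc hh hx)).trans hWO.le)
  have hP : root V x ⊔ O = P := AddSubgroup.eq_of_le_of_card_ge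
    (le_inf (sup_le (root_le_fixd_of_char_two h2 (hx.1.isTop.mul_self hc)) (inf_le_left.trans hx.2))
      (sup_le (hroot hx) inf_le_right))
    (by rw [card_sup_of_inf_eq_bot hRxO, hqa hx.1, hOcard, hPcard])
  -- for each further member, an atom with the same plane as `x`
  have key : ∀ x' : H, Mem V s t x' → x' ≠ z → x' ≠ x → ∃ y : H, Block V u x' ∧ Mem V u x' y ∧
      y ≠ u ∧ fixd V y ≠ fixd V x ∧ P ≤ fixd V y ∧ fixd V y ⊓ U = P ∧ root V y ≤ P ∧
      root V y ⊓ O = ⊥ := by
    intro x' hx' hxz' hne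
    have hB : Block V u x' := ⟨hu, hx'.1, fun hp => hxz' (hzu x' hx' hp)⟩
    have hxB : ¬ Mem V u x' x := fun hm => hun ⟨hu, by
      change C ≤ fixd V u
      rw [show C = cen V u x' from (hb.mem_inf_eq hc hh hx' hx (hb.mem_ne hc hh hx' hx hne)).symm.trans
        (hB.mem_inf_eq hc hh hB.mem_right hm (hb.mem_ne hc hh hx' hx hne))]
      exact inf_le_left⟩
    obtain ⟨y, hy, hxy, -, -⟩ := hB.exists_perp hc hh hx.1 hxB hB.mem_right (hnp hx hx' hne.symm)
    have hyu : y ≠ u := fun h => not_pres_symm hc hu.isTop hx.1.isTop hux (h ▸ hxy)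
    have hyx : fixd V y ≠ fixd V x := (Block.fixd_ne_of_not_mem hx.1 hxB hy).symm
    have hyn : ¬ Mem V s t y := fun hm => hnp hx hm (fun h => hyx (h ▸ rfl)) hxy
    obtain ⟨hy1, hy2⟩ := hB.root_le_of_pres_mem hc hh hx.1 hxB hy hxy
    have hOy : O ≤ fixd V y :=
      (le_inf hOu (inf_le_left.trans hx'.2) : O ≤ cen V u x').trans hy.2
    have hPy : P ≤ fixd V y := hP ▸ sup_le hy2 hOy
    have hyU : root V y ≤ U :=
      (hB.root_mem_le hc hh hy).trans (sup_le le_sup_right (hroot hx'))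
    refine ⟨y, hB, hy, hyu, hyx, hPy, ?_, le_inf hy1 hyU, ?_⟩
    · exact (AddSubgroup.eq_of_le_of_card_ge (le_inf hPy inf_le_right) (by
        rw [hPcard, hplane hy.1 hu le_sup_right (hB.not_pres_of_ne hc hh h2 hy hB.mem_left
          (hB.mem_ne hc hh hy hB.mem_left hyu))])).symm
    · refine (AddSubgroup.eq_bot_iff_forall _).2 fun w hw => by_contra fun hw0 => ?_
      refine hB.not_pres_of_ne hc hh h2 hB.mem_right hy ?_ (hy.1.isTop.pres_of_fix_root hc
        (AddSubgroup.mem_inf.1 hw).1 hw0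
        (mem_fixd.1 (hx'.2 (AddSubgroup.mem_inf.1 (AddSubgroup.mem_inf.1 hw).2).1)))
      exact hB.mem_ne hc hh hB.mem_right hy fun h => hyn (h ▸ hx')
  choose! f hfB hfm hfu hfx hfP hfU hfR hfO using key
  set ι := {i : H // Mem V s t i ∧ i ≠ z}
  set a : ι → H := fun i => if i.1 = x then x else f i.1 with hadef
  have ha : ∀ i : ι, IsAtom V (a i) ∧ P ≤ fixd V (a i) ∧ fixd V (a i) ⊓ U = P ∧ root V (a i) ≤ P ∧
      root V (a i) ⊓ O = ⊥ := by
    intro i
    by_cases he : i.1 = x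
    · simp only [hadef, if_pos he]
      exact ⟨hx.1, inf_le_left, rfl, le_inf (root_le_fixd_of_char_two h2 (hx.1.isTop.mul_self hc))
        (hroot hx), hRxO⟩
    · simp only [hadef, if_neg he]
      exact ⟨(hfm _ i.2.1 i.2.2 he).1, hfP _ i.2.1 i.2.2 he, hfU _ i.2.1 i.2.2 he,
        hfR _ i.2.1 i.2.2 he, hfO _ i.2.1 i.2.2 he⟩
  have hinj : ∀ i j : ι, i ≠ j → fixd V (a i) ≠ fixd V (a j) := by
    intro i j hij he
    by_cases hi : i.1 = x
    · have hj : j.1 ≠ x := fun h => hij (Subtype.ext (hi.trans h.symm))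
      simp only [hadef, if_pos hi, if_neg hj] at he
      exact hfx _ j.2.1 j.2.2 hj he.symm
    by_cases hj : j.1 = x
    · simp only [hadef, if_neg hi, if_pos hj] at he
      exact hfx _ i.2.1 i.2.2 hi he
    simp only [hadef, if_neg hi, if_neg hj] at he
    have hBi := hfB _ i.2.1 i.2.2 hi
    have hBj := hfB _ j.2.1 j.2.2 hj
    have hmi := hfm _ i.2.1 i.2.2 hi
    have hmj := hfm _ j.2.1 j.2.2 hj
    -- both blocks contain `u` and atoms with one fixed group, so their centres agree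
    have hne := hBi.mem_ne hc hh hBi.mem_left hmi (hfu _ i.2.1 i.2.2 hi).symm
    have hcen : cen V u i.1 = cen V u j.1 := by
      rw [← hBi.mem_inf_eq hc hh hBi.mem_left hmi hne,
        ← hBj.mem_inf_eq hc hh hBj.mem_left hmj (he ▸ hne), he]
    have hjm : Mem V u i.1 j.1 := ⟨j.2.1.1, hcen ▸ inf_le_right⟩
    have hne' := hb.mem_ne hc hh i.2.1 j.2.1 fun h => hij (Subtype.ext h)
    exact hun ⟨hu, by
      change C ≤ fixd V u
      rw [show C = cen V u i.1 from (hb.mem_inf_eq hc hh i.2.1 j.2.1 hne').symm.trans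
        (hBi.mem_inf_eq hc hh hBi.mem_right hjm hne')]
      exact inf_le_left⟩
  obtain ⟨v, hvU, hvP⟩ : ∃ v ∈ U, v ∉ P := by
    by_contra hall
    push Not at hall
    have := AddSubgroup.card_le_of_le (show U ≤ P from hall)
    rw [hUcard, hPcard] at this
    have : 1 < q := hb.left.one_lt_root
    nlinarith
  set d : ι → V := fun i => a i • v - v with hddef
  have hd : ∀ i, d i ∈ root V (a i) ∧ d i ≠ 0 := fun i => ⟨disp_mem_root _ _, fun h =>
    hvP ((ha i).2.2.1 ▸ AddSubgroup.mem_inf.2 ⟨mem_fixd.2 (sub_eq_zero.1 h), hvU⟩)⟩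
  have hdec : ∀ i, ∃ r : {r : root V x // r ≠ 0}, d i - ((r : root V x) : V) ∈ O := by
    intro i
    obtain ⟨r, hr, o, ho, he⟩ := AddSubgroup.mem_sup.1 (hP ▸ (ha i).2.2.2.1 (hd i).1)
    have e : d i - r = o := by rw [← he, add_sub_cancel_left]
    refine ⟨⟨⟨r, hr⟩, fun h => (hd i).2 ?_⟩, (e.symm ▸ ho : d i - r ∈ O)⟩
    have hr0 : r = 0 := congrArg Subtype.val h
    rw [hr0, zero_add] at he
    exact (AddSubgroup.eq_bot_iff_forall _).1 (ha i).2.2.2.2 _
      (AddSubgroup.mem_inf.2 ⟨(hd i).1, he ▸ ho⟩)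
  choose r hr using hdec
  obtain ⟨i, j, hij, hrij⟩ : ∃ i j : ι, i ≠ j ∧ r i = r j := by
    by_contra hnone
    push Not at hnone
    have hle := Nat.card_le_card_of_injective r fun i j h => by_contra fun hne => hnone i j hne h
    haveI := Fintype.ofFinite H
    haveI := Fintype.ofFinite V
    have e1 : Nat.card ι = q := by
      rw [Nat.card_eq_fintype_card, Fintype.card_subtype]
      have hMc := hb.card_mem hc hh
      rw [Nat.card_eq_fintype_card, Fintype.card_subtype] at hMc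
      have e : (Finset.univ.filter fun i => Mem V s t i ∧ i ≠ z) =
          (Finset.univ.filter (Mem V s t)).erase z := by ext; simp [and_comm]
      rw [e, Finset.card_erase_of_mem (by simp [hz]), hMc, ← hq, Nat.add_sub_cancel]
    have e2 : Nat.card {r : root V x // r ≠ 0} = q - 1 := by
      rw [Nat.card_eq_fintype_card, Fintype.card_subtype_compl, Fintype.card_subtype_eq,
        ← Nat.card_eq_fintype_card, hqa hx.1]
    rw [e1, e2] at hle
    have : 1 < q := hb.left.one_lt_root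
    omega
  set g := a i * a j with hgdef
  set r0 := g • v - v with hr0def
  have hr0e : r0 = d i + d j := by
    have h1 := mem_fixd.1 ((ha i).2.1 ((ha j).2.2.2.1 (hd j).1))
    simp only [hddef] at h1 ⊢
    rw [smul_sub, sub_eq_iff_eq_add] at h1
    rw [hr0def, hgdef, mul_smul, h1]; abel
  have hr0O : r0 ∈ O := by
    have h1 := sub_mem (hr i) (hr j)
    rw [hrij, sub_sub_sub_cancel_right] at h1
    have h3 : r0 = d i - d j := by
      rw [hr0e, sub_eq_add_neg, neg_eq_of_add_eq_zero_left (h2 (d j))]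
    rwa [h3]
  have hr0ne : r0 ≠ 0 := fun h => hinj i j hij ((ha i).1.isTop.fixd_eq_of_root hc (ha j).1.isTop
    (hd i).1 (by
      rw [hr0e, add_eq_zero_iff_eq_neg] at h
      rw [h]; exact neg_mem (hd j).1) (hd i).2)
  obtain ⟨k, hk, hkx⟩ := hb.exists_mem_ne hc x
  have hPg : P ≤ fixd V g := le_fixd_mul (ha i).2.1 (ha j).2.1
  have hkr : k • r0 = r0 := mem_fixd.1 (hk.2 hr0O.1)
  obtain ⟨m, hm1, -, hmg, hmh⟩ := hc g (k * g * k⁻¹) v (k • v) (by
    rw [mul_smul (k * g), inv_smul_smul, mul_smul k, ← smul_sub, ← hr0def, hkr])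
  have hx'' : Mem V s t (k * x * k⁻¹) := hx.conj hk.2
  have hxne : x ≠ k * x * k⁻¹ := fun h => hnp hk hx hkx
    (pres_of_commute (mul_inv_eq_iff_eq_mul.1 h.symm))
  have hUm : U ≤ fixd V m := by
    rw [← hsup, hWdef, ← hb.sup_root_eq hc hh hx hx'' hxne]
    refine sup_le (sup_le (fun w hw => ?_) fun w hw => ?_) fun w hw => ?_
    · exact mem_fixd.2 (hmg w (mem_fixd.1 (hPg (hP ▸ AddSubgroup.mem_sup_left hw))))
    · refine mem_fixd.2 (hmh w (mem_fixd.1 (mem_fixd_conj.2 (hPg (hP ▸ AddSubgroup.mem_sup_left ?_)))))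
      have h1 := mem_root_conj (k := k⁻¹) hw
      rwa [inv_inv, ← mul_assoc, ← mul_assoc, inv_mul_cancel, one_mul, inv_mul_cancel_right] at h1
    · exact mem_fixd.2 (hmg w (mem_fixd.1 (hPg (hP ▸ AddSubgroup.mem_sup_right hw))))
  exact hr0ne (by rw [hr0def, ← hm1, mem_fixd.1 (hUm hvU), sub_self])

end CfsgLib.BinaryAffine
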