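import Cfsg.Agent.BinaryAffine.Beta

/-!
# Binary affine groups: no projective plane of roots

In odd characteristic the atoms with displacements in `plane ⊔ root u`, related when they commute, would be
a symmetric incidence matrix `M` of a projective plane of order divisible by `p` with zero diagonal; then
`M ^ p` has trace one and trace zero modulo `p`.
-/

set_option autoImplicit false
set_option linter.unusedSectionVars false
set_option linter.style.haveILetI false

namespace CfsgLib.BinaryAffine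

variable {H V : Type*} [Group H] [AddCommGroup V] [DistribMulAction H V]
variable [FaithfulSMul H V] [Finite V] [Finite H]

open Matrix in
/-- No zero-diagonal matrix over `ZMod p` squares to the all-ones matrix with row sums one. -/
theorem false_of_square_eq_ones {n : Type*} [Fintype n] [DecidableEq n] [Nonempty n] {p : ℕ}
    [Fact p.Prime] (M : Matrix n n (ZMod p)) (hd : ∀ i, M i i = 0)
    (hs : ∀ i, ∑ j, M i j = 1) (h2 : M * M = Matrix.of fun _ _ => 1) : False := by
  set J : Matrix n n (ZMod p) := Matrix.of fun _ _ => 1 with hJ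
  have hMJ : M * J = J := by
    ext i k
    simp [Matrix.mul_apply, hJ, hs]
  have hpow : ∀ k, M ^ (k + 2) = J := by
    intro k
    induction k with
    | zero => rw [pow_two, h2]
    | succ k ih => rw [pow_succ', ih, hMJ]
  have hN : (Fintype.card n : ZMod p) = 1 := by
    obtain ⟨i⟩ := ‹Nonempty n›
    have h1 : J * J = J := by rw [← hpow 0, ← pow_add, hpow 2, hpow 0]
    have h3 := congrFun (congrFun h1 i) i
    simpa [Matrix.mul_apply, hJ] using h3
  have htr : M.trace = 0 := Finset.sum_eq_zero fun i _ => hd i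
  have hp := (Fact.out : p.Prime).two_le
  have h3 := ZMod.trace_pow_card M
  rw [(congrArg (M ^ ·) (show p = (p - 2) + 2 by omega)).trans (hpow (p - 2)), htr,
    zero_pow (by omega : p ≠ 0)] at h3
  simp [Matrix.trace, hJ, hN] at h3

variable (hc : Common H V) (hh : Chr V) (h2 : ∀ v : V, v + v = 0 → v = 0)
include hc hh h2

theorem commute_of_pres_odd {a b : H} (ha : IsAtom V a) (hb : IsAtom V b) (h : Pres V a b) :
    a * b = b * a :=
  commute_of_unique (fun he => hb.isTop.eq_of_fixd_le hc h2 (hb.conj a).1 he.ge) h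

theorem eq_of_root_mem_odd {a b : H} (ha : IsAtom V a) (hb : IsAtom V b) {w : V}
    (hwa : w ∈ root V a) (hwb : w ∈ root V b) (hw : w ≠ 0) : a = b :=
  hb.isTop.eq_of_fixd_le hc h2 ha.1 (hb.isTop.fixd_eq_of_root hc ha.isTop hwb hwa hw).le

theorem root_le_of_pres_odd {a b : H} (ha : IsAtom V a) (hb : IsAtom V b) (hne : a ≠ b)
    (h : Pres V a b) : root V b ≤ fixd V a :=
  ha.isTop.root_le_of_commute hc hb.isTop
    (fun he => hne (hb.isTop.eq_of_fixd_le hc h2 ha.1 he.ge)) (commute_of_pres_odd hc hh h2 ha hb h)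

theorem eq_of_root_le_fixd {a : H} (ha : IsAtom V a) {P : AddSubgroup V} (hP : P ≤ fixd V a)
    (hR : root V a ≤ P) : False := by
  obtain ⟨r, hr, hr0⟩ := exists_root_ne_zero (V := V) ha.1
  exact hr0 ((AddSubgroup.eq_bot_iff_forall _).1 (root_inf_fixd_self hc h2 a) r
    (AddSubgroup.mem_inf.2 ⟨hr, hP (hR hr)⟩))

/-- What an atom outside a block fixes of the plane enlarged by its displacements is again a plane. -/
theorem Block.exists_plane {s t : H} (hb : Block V s t) {a x : H} (ha : IsAtom V a)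
    (han : ¬ Mem V s t a) (hx : Mem V s t x) (hax : ¬ Pres V a x) :
    ∃ a1 a2 : H, Block V a1 a2 ∧ fixd V a ⊓ (plane V s t ⊔ root V a) = plane V a1 a2 := by
  classical
  haveI := Fintype.ofFinite H
  set q := Nat.card (root V s) with hq
  have hqa : ∀ {a : H}, IsAtom V a → Nat.card (root V a) = q := fun h => hb.left.card_root_eq h
  set U := plane V s t ⊔ root V a
  set P := fixd V a ⊓ U with hP
  have hPcard : Nat.card P = q * q := by
    have h := card_inf_fixd_of_not_pres hc ha hx.1 hax (X := U)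
      ((hb.root_mem_le hc hh hx).trans le_sup_left)
    rw [hqa ha, card_sup_of_inf_eq_bot (by rw [inf_comm]; exact hb.root_inf_plane hc hh ha han),
      hb.card_plane hc, hqa ha, inf_comm] at h
    exact Nat.eq_of_mul_eq_mul_right Nat.card_pos h
  obtain ⟨z, hz, hpz, -, hzu⟩ := hb.exists_perp hc hh ha han hx hax
  have key : ∀ y : H, Mem V s t y → y ≠ z → ∃ w : H, Block V a y ∧ Mem V a y w ∧ w ≠ a ∧ w ≠ z ∧
      root V w ≤ P := by
    intro y hy hyz
    have hB : Block V a y := ⟨ha, hy.1, fun hp => hyz (hzu y hy hp)⟩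
    obtain ⟨⟨v, hv⟩, hv0⟩ := @exists_ne ↥(fixd V a ⊓ plane V a y)
      (Finite.one_lt_card_iff_nontrivial.1
        ((hB.card_fixd_inf_plane hc hh hB.mem_left) ▸ ha.one_lt_root)) 0
    have hv0' : v ≠ 0 := fun h => hv0 (Subtype.ext h)
    obtain ⟨w, hw, hvw⟩ := hB.exists_mem_root hc hh (AddSubgroup.mem_inf.1 hv).2 hv0'
    have hwa : w ≠ a := fun h => hv0' ((AddSubgroup.eq_bot_iff_forall _).1
      (root_inf_fixd_self hc h2 a) v (AddSubgroup.mem_inf.2 ⟨h ▸ hvw, (AddSubgroup.mem_inf.1 hv).1⟩))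
    have hp : Pres V a w :=
      hw.1.isTop.pres_of_fix_root hc hvw hv0' (mem_fixd.1 (AddSubgroup.mem_inf.1 hv).1)
    refine ⟨w, hB, hw, hwa, fun h => han ⟨ha, ?_⟩, le_inf
      (root_le_of_pres_odd hc hh h2 ha hw.1 hwa.symm hp)
      ((hB.root_mem_le hc hh hw).trans
        (sup_le le_sup_right ((hb.root_mem_le hc hh hy).trans le_sup_left)))⟩
    subst h
    rw [show cen V s t = cen V a y from
      (hb.mem_inf_eq hc hh hy hz (hb.mem_ne hc hh hy hz hyz)).symm.trans
        (hB.mem_inf_eq hc hh hB.mem_right hw (hb.mem_ne hc hh hy hz hyz))]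
    exact inf_le_left
  obtain ⟨y1, hy1, y2, hy2, hy12, hy1z, hy2z⟩ : ∃ y1, Mem V s t y1 ∧ ∃ y2, Mem V s t y2 ∧ y1 ≠ y2 ∧
      y1 ≠ z ∧ y2 ≠ z := by
    have hM := hb.card_mem hc hh
    rw [Nat.card_eq_fintype_card, Fintype.card_subtype] at hM
    have h1 : 1 < ((Finset.univ.filter (Mem V s t)).erase z).card := by
      rw [Finset.card_erase_of_mem (by simp [hz]), hM]
      have := hb.left.one_lt_root
      omega
    obtain ⟨y1, h1', y2, h2', hne⟩ := Finset.one_lt_card.1 h1
    simp at h1' h2'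
    exact ⟨y1, h1'.2, y2, h2'.2, hne, h1'.1, h2'.1⟩
  obtain ⟨w1, hB1, hw1, hw1a, hw1z, hw1P⟩ := key y1 hy1 hy1z
  obtain ⟨w2, hB2, hw2, hw2a, hw2z, hw2P⟩ := key y2 hy2 hy2z
  have hw12 : w1 ≠ w2 := by
    intro h
    subst h
    have hne := hB1.mem_ne hc hh hB1.mem_left hw1 hw1a.symm
    have hcen : cen V a y1 = cen V a y2 :=
      (hB1.mem_inf_eq hc hh hB1.mem_left hw1 hne).symm.trans (hB2.mem_inf_eq hc hh hB2.mem_left hw2 hne)
    have hne' := hb.mem_ne hc hh hy1 hy2 hy12
    refine han ⟨ha, ?_⟩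
    rw [show cen V s t = cen V a y1 from (hb.mem_inf_eq hc hh hy1 hy2 hne').symm.trans
      (hB1.mem_inf_eq hc hh hB1.mem_right ⟨hy2.1, hcen ▸ inf_le_right⟩ hne')]
    exact inf_le_left
  have hzP : root V z ≤ P := le_inf (hb.root_le_of_pres_mem hc hh ha han hz hpz).1
    ((hb.root_mem_le hc hh hz).trans le_sup_left)
  have hsup : ∀ {b1 b2 : H}, IsAtom V b1 → IsAtom V b2 → root V b1 ≤ P → root V b2 ≤ P → b1 ≠ b2 →
      root V b1 ⊔ root V b2 = P := fun {b1 b2} h1 h3 hP1 hP2 hne =>
    AddSubgroup.eq_of_le_of_card_ge (sup_le hP1 hP2) (by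
      rw [hPcard, card_sup_of_inf_eq_bot (h1.isTop.root_inf_eq_bot hc h3.isTop fun he =>
        hne (h3.isTop.eq_of_fixd_le hc h2 h1.1 he.ge)), hqa h1, hqa h3])
  by_contra hno
  push Not at hno
  have hpres : ∀ {b1 b2 : H}, IsAtom V b1 → IsAtom V b2 → root V b1 ≤ P → root V b2 ≤ P → b1 ≠ b2 →
      Pres V b1 b2 := fun {b1 b2} h1 h3 hP1 hP2 hne => by_contra fun hp =>
    hno b1 b2 ⟨h1, h3, hp⟩ (hsup h1 h3 hP1 hP2 hne).symm
  refine eq_of_root_le_fixd hc hh h2 hz.1 (P := P) ?_ hzP
  rw [← hsup hw1.1 hw2.1 hw1P hw2P hw12]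
  exact sup_le (root_le_of_pres_odd hc hh h2 hz.1 hw1.1 hw1z.symm (hpres hz.1 hw1.1 hzP hw1P hw1z.symm))
    (root_le_of_pres_odd hc hh h2 hz.1 hw2.1 hw2z.symm (hpres hz.1 hw2.1 hzP hw2P hw2z.symm))

/-- Odd characteristic: no atom outside moves a member. -/
theorem Block.false_odd {p : ℕ} [Fact p.Prime] (hpV : ∀ v : V, p • v = 0) {s t : H} (hb : Block V s t)
    {u x0 : H} (hu : IsAtom V u) (hun : ¬ Mem V s t u) (hx : Mem V s t x0) (hux : ¬ Pres V u x0) :
    False := by
  classical
  haveI := Fintype.ofFinite H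
  set q := Nat.card (root V s) with hq
  have hqa : ∀ {a : H}, IsAtom V a → Nat.card (root V a) = q := fun h => hb.left.card_root_eq h
  have hq1 : 1 < q := hb.left.one_lt_root
  have hpq : (q : ZMod p) = 0 := by
    rw [ZMod.natCast_eq_zero_iff]
    obtain ⟨r, hr, hr0⟩ := exists_root_ne_zero (V := V) hb.left.1
    have h1 : addOrderOf r = p := addOrderOf_eq_prime (hpV r) hr0
    rw [← h1, show addOrderOf r = addOrderOf (⟨r, hr⟩ : root V s) from
      addOrderOf_injective (root V s).subtype Subtype.coe_injective ⟨r, hr⟩]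
    exact addOrderOf_dvd_natCard _
  obtain ⟨r, hr, hr0⟩ := exists_root_ne_zero (V := V) hb.left.1
  have hq3 : 3 ≤ q := by
    haveI := Fintype.ofFinite (root V s)
    rw [hq, Nat.card_eq_fintype_card]
    refine Fintype.two_lt_card_iff.2 ⟨0, ⟨r, hr⟩, ⟨r + r, add_mem hr hr⟩, ?_, ?_, ?_⟩ <;>
      intro h <;> have h := congrArg Subtype.val h <;> simp at h
    · exact hr0 h.symm
    · exact hr0 (h2 r h.symm)
    · exact hr0 h
  set W := plane V s t
  set U := W ⊔ root V u
  have hUcard : Nat.card U = q * q * q := by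
    rw [card_sup_of_inf_eq_bot (by rw [inf_comm]; exact hb.root_inf_plane hc hh hu hun),
      hb.card_plane hc, hqa hu]
  obtain ⟨z, hz, huz, -, hzu⟩ := hb.exists_perp hc hh hu hun hx hux
  -- every atom rooted in `U` has a plane
  have key : ∀ a : H, IsAtom V a → root V a ≤ U →
      ∃ a1 a2 : H, Block V a1 a2 ∧ fixd V a ⊓ U = plane V a1 a2 := by
    intro a ha haU
    obtain ⟨s', t', x, hX, hXU, han, hxm, hax⟩ : ∃ s' t' x : H, Block V s' t' ∧ plane V s' t' ≤ U ∧
        ¬ Mem V s' t' a ∧ Mem V s' t' x ∧ ¬ Pres V a x := by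
      by_cases hau : a = u
      · subst hau
        exact ⟨s, t, x0, hb, le_sup_left, hun, hx, hux⟩
      set L := (Finset.univ.filter (Mem V s t)).erase z with hL
      have hL' : ∀ {x}, x ∈ L → Mem V s t x ∧ x ≠ z := fun h => by
        rw [hL, Finset.mem_erase, Finset.mem_filter] at h
        exact ⟨h.2.2, h.1⟩
      have hB : ∀ {x}, x ∈ L → Block V u x := fun h =>
        ⟨hu, (hL' h).1.1, fun hp => (hL' h).2 (hzu _ (hL' h).1 hp)⟩
      have hBU : ∀ {x}, x ∈ L → plane V u x ≤ U := fun h =>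
        sup_le le_sup_right ((hb.root_mem_le hc hh (hL' h).1).trans le_sup_left)
      by_contra hno
      push Not at hno
      -- each candidate block contains `a` or is fixed by it
      have hfail : ∀ {x}, x ∈ L → Mem V u x a ∨ (¬ Mem V u x a ∧ root V u ≤ fixd V a ∧
          root V x ≤ fixd V a) := fun {x} h => by
        by_cases hm : Mem V u x a
        · exact Or.inl hm
        · exact Or.inr ⟨hm, root_le_of_pres_odd hc hh h2 ha hu hau
            (hno u x u (hB h) (hBU h) hm (hB h).mem_left),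
            root_le_of_pres_odd hc hh h2 ha (hL' h).1.1 (fun he => hm (he ▸ (hB h).mem_right))
              (hno u x x (hB h) (hBU h) hm (hB h).mem_right)⟩
      have hin : ∀ {x x'}, x ∈ L → x' ∈ L → Mem V u x a → Mem V u x' a → x = x' := fun {x x'} h h' hm hm' => by
        by_contra hne
        have hne1 := (hB h).mem_ne hc hh (hB h).mem_left hm (Ne.symm hau)
        have hcen : cen V u x = cen V u x' :=
          ((hB h).mem_inf_eq hc hh (hB h).mem_left hm hne1).symm.trans
            ((hB h').mem_inf_eq hc hh (hB h').mem_left hm' hne1)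
        have hne' := hb.mem_ne hc hh (hL' h).1 (hL' h').1 hne
        refine hun ⟨hu, ?_⟩
        rw [show cen V s t = cen V u x from (hb.mem_inf_eq hc hh (hL' h).1 (hL' h').1 hne').symm.trans
          ((hB h).mem_inf_eq hc hh (hB h).mem_right ⟨(hL' h').1.1, hcen ▸ inf_le_right⟩ hne')]
        exact inf_le_left
      have hout : ∀ {x x'}, x ∈ L → x' ∈ L → root V u ≤ fixd V a → root V x ≤ fixd V a →
          root V x' ≤ fixd V a → x = x' := fun {x x'} h h' h1 h3 h4 => by
        by_contra hne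
        refine eq_of_root_le_fixd hc hh h2 ha (P := U) (sup_le ?_ h1) haU
        show plane V s t ≤ _
        rw [← hb.sup_root_eq hc hh (hL' h).1 (hL' h').1 hne]
        exact sup_le h3 h4
      have hcard : L.card ≤ (Finset.univ : Finset Bool).card := by
        refine Finset.card_le_card_of_injOn (fun x => decide (Mem V u x a)) (fun _ _ => Finset.mem_univ _) ?_
        intro x hx x' hx' he
        have he : decide (Mem V u x a) = decide (Mem V u x' a) := he
        rcases hfail hx with hm | ⟨hm, h1, h3⟩ <;> rcases hfail hx' with hm' | ⟨hm', -, h4⟩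
        · exact hin hx hx' hm hm'
        · simp [hm, hm'] at he
        · simp [hm, hm'] at he
        · exact hout hx hx' h1 h3 h4
      have hM := hb.card_mem hc hh
      rw [Nat.card_eq_fintype_card, Fintype.card_subtype] at hM
      rw [hL, Finset.card_erase_of_mem (by simp [hz]), hM] at hcard
      simp at hcard
      omega
    have hU : plane V s' t' ⊔ root V a = U := AddSubgroup.eq_of_le_of_card_ge (sup_le hXU haU) (by
      rw [hUcard, card_sup_of_inf_eq_bot (X := plane V s' t') (Y := root V a)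
        (by rw [inf_comm]; exact hX.root_inf_plane hc hh ha han),
        hX.card_plane hc, hqa hX.left, hqa ha])
    obtain ⟨a1, a2, hB, he⟩ := hX.exists_plane hc hh h2 ha han hxm hax
    exact ⟨a1, a2, hB, hU ▸ he⟩
  set S := {a : H // IsAtom V a ∧ root V a ≤ U}
  haveI : Nonempty S := ⟨⟨u, hu, le_sup_right⟩⟩
  choose A1 A2 hAB hAe using fun a : S => key a.1 a.2.1 a.2.2
  have hrel : ∀ (a : S) (b : H), Mem V (A1 a) (A2 a) b ↔
      IsAtom V b ∧ root V b ≤ U ∧ a.1 ≠ b ∧ a.1 * b = b * a.1 := by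
    intro a b
    constructor
    · intro hm
      have hle := (hAe a).symm ▸ (hAB a).root_mem_le hc hh hm
      obtain ⟨r, hr, hr0⟩ := exists_root_ne_zero (V := V) hm.1.1
      have hne : a.1 ≠ b := fun he => eq_of_root_le_fixd hc hh h2 a.2.1 (P := fixd V a.1 ⊓ U) inf_le_left
        (by rw [he] at hle ⊢; exact hle)
      exact ⟨hm.1, hle.trans inf_le_right, hne, commute_of_pres_odd hc hh h2 a.2.1 hm.1
        (hm.1.isTop.pres_of_fix_root hc hr hr0 (mem_fixd.1 (hle hr).1))⟩
    · rintro ⟨hb', hbU, hne, hcom⟩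
      obtain ⟨r, hr, hr0⟩ := exists_root_ne_zero (V := V) hb'.1
      have hrP : r ∈ plane V (A1 a) (A2 a) := hAe a ▸ AddSubgroup.mem_inf.2
        ⟨root_le_of_pres_odd hc hh h2 a.2.1 hb' hne (pres_of_commute hcom) hr, hbU hr⟩
      obtain ⟨c, hc', hrc⟩ := (hAB a).exists_mem_root hc hh hrP hr0
      rwa [eq_of_root_mem_odd hc hh h2 hb' hc'.1 hr hrc hr0]
  have hrow : ∀ a : S, (Finset.univ.filter fun b : S => Mem V (A1 a) (A2 a) b.1).card = q + 1 := by
    intro a
    have h := (hAB a).card_mem hc hh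
    rw [hqa (hAB a).left] at h
    rw [← h, ← Fintype.card_subtype, ← Nat.card_eq_fintype_card]
    exact Nat.card_congr
      { toFun := fun b => ⟨b.1.1, b.2⟩
        invFun := fun b => ⟨⟨b.1, ((hrel a b.1).1 b.2).1, ((hrel a b.1).1 b.2).2.1⟩, b.2⟩
        left_inv := fun _ => rfl
        right_inv := fun _ => rfl }
  set M : Matrix S S (ZMod p) := Matrix.of fun a b => if Mem V (A1 a) (A2 a) b.1 then 1 else 0 with hM
  have hsym : ∀ a b : S, Mem V (A1 a) (A2 a) b.1 ↔ Mem V (A1 b) (A2 b) a.1 := fun a b => by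
    rw [hrel, hrel]
    exact ⟨fun h => ⟨a.2.1, a.2.2, h.2.2.1.symm, h.2.2.2.symm⟩,
      fun h => ⟨b.2.1, b.2.2, h.2.2.1.symm, h.2.2.2.symm⟩⟩
  -- two atoms have one common neighbour
  have hone : ∀ a b : S, a ≠ b → ∃! c : S, Mem V (A1 a) (A2 a) c.1 ∧ Mem V (A1 b) (A2 b) c.1 := by
    intro a b hab
    have hP : ∀ a : S, plane V (A1 a) (A2 a) ≤ U := fun a => (hAe a).ge.trans inf_le_right
    have hcardP : ∀ a : S, Nat.card (plane V (A1 a) (A2 a)) = q * q := fun a => by
      rw [(hAB a).card_plane hc, hqa (hAB a).left]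
    obtain ⟨w, hw, hw0⟩ : ∃ w, w ∈ plane V (A1 a) (A2 a) ⊓ plane V (A1 b) (A2 b) ∧ w ≠ 0 := by
      by_contra hno
      push Not at hno
      have h := card_le_of_inf_eq_bot ((AddSubgroup.eq_bot_iff_forall _).2 hno) (hP a) (hP b)
      rw [hcardP, hcardP, hUcard] at h
      nlinarith
    obtain ⟨c, hca, hwc⟩ := (hAB a).exists_mem_root hc hh (AddSubgroup.mem_inf.1 hw).1 hw0
    obtain ⟨c', hcb, hwc'⟩ := (hAB b).exists_mem_root hc hh (AddSubgroup.mem_inf.1 hw).2 hw0
    have hcc := eq_of_root_mem_odd hc hh h2 hca.1 hcb.1 hwc hwc' hw0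
    subst hcc
    refine ⟨⟨c, hca.1, ((hrel a c).1 hca).2.1⟩, ⟨hca, hcb⟩, fun d hd => by_contra fun hne => hab ?_⟩
    have hne' : c ≠ d.1 := fun h => hne (Subtype.ext h.symm)
    -- the planes agree, so both atoms have the same displacements
    have hplane : plane V (A1 a) (A2 a) = plane V (A1 b) (A2 b) :=
      ((hAB a).sup_root_eq hc hh hca hd.1 hne').symm.trans ((hAB b).sup_root_eq hc hh hcb hd.2 hne')
    have hin : ∀ e : S, Mem V (A1 e) (A2 e) c → Mem V (A1 e) (A2 e) d.1 →
        root V e.1 ≤ fixd V c ⊓ fixd V d.1 ⊓ U := fun e h1 h3 =>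
      le_inf (le_inf
        (root_le_of_pres_odd hc hh h2 h1.1 e.2.1 ((hrel e c).1 h1).2.2.1.symm
          (pres_of_commute ((hrel e c).1 h1).2.2.2.symm))
        (root_le_of_pres_odd hc hh h2 h3.1 e.2.1 ((hrel e d.1).1 h3).2.2.1.symm
          (pres_of_commute ((hrel e d.1).1 h3).2.2.2.symm))) e.2.2
    set X := fixd V c ⊓ fixd V d.1 ⊓ U
    have hXcard : Nat.card X ≤ q := by
      have hX : X ⊓ plane V (A1 a) (A2 a) = ⊥ := eq_bot_iff.2 (by
        rw [← (hAB a).cen_inf_plane hc hh,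
          ← (hAB a).mem_inf_eq hc hh hca hd.1 ((hAB a).mem_ne hc hh hca hd.1 hne')]
        exact inf_le_inf_right _ inf_le_left)
      have h := card_le_of_inf_eq_bot hX inf_le_right (hP a)
      rw [hcardP, hUcard, mul_assoc] at h
      exact Nat.le_of_mul_le_mul_right h (by positivity)
    have hea := AddSubgroup.eq_of_le_of_card_ge (hin a hca hd.1) (by rw [hqa a.2.1]; exact hXcard)
    have heb := AddSubgroup.eq_of_le_of_card_ge (hin b hcb hd.2) (by rw [hqa b.2.1]; exact hXcard)
    obtain ⟨r, hr, hr0⟩ := exists_root_ne_zero (V := V) a.2.1.1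
    exact Subtype.ext (eq_of_root_mem_odd hc hh h2 a.2.1 b.2.1 hr (heb.symm ▸ hea ▸ hr) hr0)
  refine false_of_square_eq_ones M (fun a => ?_) (fun a => ?_) ?_
  · simp only [hM, Matrix.of_apply]
    exact if_neg fun h => ((hrel a a.1).1 h).2.2.1 rfl
  · simp only [hM, Matrix.of_apply, Finset.sum_boole, hrow, Nat.cast_add, hpq, Nat.cast_one, zero_add]
  · ext a b
    simp only [hM, Matrix.mul_apply, Matrix.of_apply, ← ite_and, mul_ite, mul_one, mul_zero]
    rw [Finset.sum_boole]
    by_cases hab : a = b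
    · subst hab
      rw [Finset.filter_congr fun c _ => (show (Mem V (A1 c) (A2 c) a.1 ∧ Mem V (A1 a) (A2 a) c.1) ↔
        Mem V (A1 a) (A2 a) c.1 from ⟨fun h => h.2, fun h => ⟨(hsym a c).1 h, h⟩⟩), hrow]
      simp [hpq]
    · obtain ⟨c, hc1, hc2⟩ := hone a b hab
      rw [show (Finset.univ.filter fun j : S =>
          Mem V (A1 j) (A2 j) b.1 ∧ Mem V (A1 a) (A2 a) j.1) = {c} from ?_]
      · simp
      ext j
      simp only [Finset.mem_filter, Finset.mem_univ, true_and, Finset.mem_singleton]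
      exact ⟨fun h => hc2 j ⟨h.2, (hsym b j).2 h.1⟩,
        fun h => h ▸ ⟨(hsym b c).1 hc1.2, hc1.1⟩⟩

end CfsgLib.BinaryAffine
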