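import Cfsg.Agent.BinaryAffine.Tops

/-!
# Binary affine groups: blocks

Two atoms `s`, `t`, neither stabilising the fixed group of the other, form a block: `cen` is what both
fix, `plane` the sum of their displacement groups. The members of the block are the atoms fixing `cen`.
-/

set_option autoImplicit false
set_option linter.unusedSectionVars false
set_option linter.style.haveILetI false

namespace CfsgLib.BinaryAffine

variable {H V : Type*} [Group H] [AddCommGroup V] [DistribMulAction H V]

variable (V) in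
/-- What both `s` and `t` fix. -/
def cen (s t : H) : AddSubgroup V := fixd V s ⊓ fixd V t

variable (V) in
/-- The displacements of `s` and `t`. -/
def plane (s t : H) : AddSubgroup V := root V s ⊔ root V t

variable (V) in
/-- A pair of atoms, the first not stabilising the fixed group of the second. -/
structure Block (s t : H) : Prop where
  left : IsAtom V s
  right : IsAtom V t
  not_pres : ¬ Pres V s t

variable (V) in
/-- Characteristic two or odd. -/
def Chr : Prop := (∀ v : V, v + v = 0) ∨ (∀ v : V, v + v = 0 → v = 0)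

theorem cen_comm (s t : H) : cen V t s = cen V s t := inf_comm ..

theorem plane_comm (s t : H) : plane V t s = plane V s t := sup_comm ..

theorem pres_congr {s t t' : H} (h : fixd V t' = fixd V t) : Pres V s t' ↔ Pres V s t := by
  rw [Pres, Pres, h]

theorem pres_of_fixd_eq {s t : H} (h : fixd V s = fixd V t) : Pres V s t := fun a ha => by
  have ha' := mem_fixd.1 (h ▸ ha : a ∈ fixd V s)
  rwa [ha']

theorem Block.fixd_ne {s t : H} (hb : Block V s t) : fixd V s ≠ fixd V t :=
  fun h => hb.not_pres (pres_of_fixd_eq h)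

variable [FaithfulSMul H V] [Finite V]

theorem IsAtom.of_fixd_eq {t d : H} (ht : IsAtom V t) (hd : d ≠ 1) (h : fixd V d = fixd V t) :
    IsAtom V d :=
  ⟨hd, fun g hg => h ▸ ht.2 g hg⟩

theorem IsAtom.one_lt_root {t : H} (ht : IsAtom V t) : 1 < Nat.card (root V t) := by
  obtain ⟨r, hr, hr0⟩ := exists_root_ne_zero (V := V) ht.1
  exact Finite.one_lt_card_iff_nontrivial.2 ⟨⟨r, hr⟩, 0, fun h => hr0 (congrArg Subtype.val h)⟩

variable (hc : Common H V)
include hc

theorem Block.symm {s t : H} (hb : Block V s t) : Block V t s :=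
  ⟨hb.right, hb.left, not_pres_symm hc hb.left.isTop hb.right.isTop hb.not_pres⟩

theorem Block.congr_right {s t t' : H} (hb : Block V s t) (ht : IsAtom V t')
    (h : fixd V t' = fixd V t) : Block V s t' :=
  ⟨hb.left, ht, fun hp => hb.not_pres ((pres_congr h).1 hp)⟩

theorem Block.congr_left {s s' t : H} (hb : Block V s t) (hs : IsAtom V s')
    (h : fixd V s' = fixd V s) : Block V s' t :=
  ((hb.symm hc).congr_right hc hs h).symm hc

theorem Block.conj {s t : H} (hb : Block V s t) (k : H) :
    Block V (k * s * k⁻¹) (k * t * k⁻¹) := by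
  refine ⟨hb.left.conj k, hb.right.conj k, fun hp => hb.not_pres fun a ha => ?_⟩
  have := hp (k • a) (mem_fixd_conj.2 (by rwa [inv_smul_smul]))
  rwa [mem_fixd_conj, mul_smul, mul_smul, inv_smul_smul, inv_smul_smul] at this

theorem Block.root_inf_fixd {s t : H} (hb : Block V s t) : root V t ⊓ fixd V s = ⊥ :=
  hb.right.isTop.root_inf_fixd_eq_bot hc hb.not_pres

theorem Block.root_inf_root {s t : H} (hb : Block V s t) : root V s ⊓ root V t = ⊥ :=
  hb.left.isTop.root_inf_eq_bot hc hb.right.isTop hb.fixd_ne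

theorem Block.card_plane {s t : H} (hb : Block V s t) :
    Nat.card (plane V s t) = Nat.card (root V s) * Nat.card (root V s) := by
  rw [plane, card_sup_of_inf_eq_bot (hb.root_inf_root hc), hb.left.card_root_eq hb.right]

theorem Block.cen_inf_plane (hh : Chr V) {s t : H} (hb : Block V s t) :
    cen V s t ⊓ plane V s t = ⊥ := by
  refine (AddSubgroup.eq_bot_iff_forall _).2 fun c hc' => ?_
  rw [AddSubgroup.mem_inf, cen, AddSubgroup.mem_inf] at hc'
  obtain ⟨⟨hcs, hct⟩, hcw⟩ := hc'
  obtain ⟨a, ha, b, hb', rfl⟩ := AddSubgroup.mem_sup.1 hcw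
  rcases hh with h2 | h2
  · have hbt : b ∈ fixd V t := root_le_fixd_of_char_two h2 (hb.right.isTop.mul_self hc) hb'
    have ha0 : a = 0 := (AddSubgroup.eq_bot_iff_forall _).1 ((hb.symm hc).root_inf_fixd hc) a
      (AddSubgroup.mem_inf.2 ⟨ha, by simpa using sub_mem hct hbt⟩)
    rw [ha0, zero_add] at hcs ⊢
    exact (AddSubgroup.eq_bot_iff_forall _).1 (hb.root_inf_fixd hc) b
      (AddSubgroup.mem_inf.2 ⟨hb', hcs⟩)
  · have hsa := smul_of_mem_root (hb.left.isTop.mul_self hc) ha
    have htb := smul_of_mem_root (hb.right.isTop.mul_self hc) hb'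
    rw [mem_fixd] at hcs hct
    -- `t * s` moves `a` by `-2 (a + b)`, which it fixes
    have h1 : (t * s) • a - a = -((a + b) + (a + b)) := by
      have : t • a = a + b + b := by
        rw [smul_add, htb, ← sub_eq_add_neg, sub_eq_iff_eq_add] at hct
        exact hct
      rw [mul_smul, hsa, smul_neg, this]; abel
    have h2' : (t * s) • a = a := disp_fixed_eq_zero hc h2 (by
      rw [h1, smul_neg, smul_add, mul_smul, hcs, hct])
    rw [h2', sub_self, eq_comm, neg_eq_zero] at h1
    exact h2 _ h1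

theorem Block.card_fixd (hh : Chr V) {s t : H} (hb : Block V s t) :
    Nat.card (fixd V s) = Nat.card (cen V s t) * Nat.card (root V s) := by
  refine le_antisymm ?_ ?_
  · have h1 := card_le_inf_fixd_mul_root (fixd V s) t
    rw [hb.left.card_root_eq hb.right] at h1
    exact h1
  · have h1 := card_mul_le_of_inf_eq_bot (hb.cen_inf_plane hc hh)
    rw [hb.card_plane hc, ← card_fixd_mul_root (V := V) s, ← mul_assoc] at h1
    exact Nat.le_of_mul_le_mul_right h1 Nat.card_pos

theorem Block.card_space (hh : Chr V) {s t : H} (hb : Block V s t) :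
    Nat.card V = Nat.card (cen V s t) * Nat.card (root V s) * Nat.card (root V s) := by
  rw [← card_fixd_mul_root (V := V) s, hb.card_fixd hc hh]

theorem Block.cen_sup_plane (hh : Chr V) {s t : H} (hb : Block V s t) :
    cen V s t ⊔ plane V s t = ⊤ := by
  refine AddSubgroup.eq_top_of_card_eq _ ?_
  rw [card_sup_of_inf_eq_bot (hb.cen_inf_plane hc hh), hb.card_plane hc, hb.card_space hc hh, mul_assoc]

/-- In characteristic two a top fixing the centre of a block commutes with neither of its atoms. -/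
theorem Block.false_of_commute (h2 : ∀ v : V, v + v = 0) {s t : H} (hb : Block V s t) {d : H}
    (hd : IsTop V d) (hC : cen V s t ≤ fixd V d) (hne : fixd V d ≠ fixd V s) (hcom : d * s = s * d) :
    False := by
  have h1 : root V s ≤ fixd V d := hd.root_le_of_commute hc hb.left.isTop hne hcom
  have h3 : root V s ≤ fixd V s := root_le_fixd_of_char_two h2 (hb.left.isTop.mul_self hc)
  have h4 : cen V s t ⊓ root V s = ⊥ := eq_bot_iff.2 <| by
    rw [← (hb.symm hc).root_inf_fixd hc]
    exact le_inf inf_le_right (inf_le_left.trans inf_le_right)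
  have h5 : cen V s t ⊔ root V s = fixd V s := AddSubgroup.eq_of_le_of_card_ge
    (sup_le inf_le_left h3) (by rw [card_sup_of_inf_eq_bot h4, hb.card_fixd hc (Or.inl h2)])
  exact hne (hb.left.isTop.2 d hd.1 (h5 ▸ sup_le hC h1))

theorem exists_commute_atom {d s : H} (hd : IsTop V d) (hs : IsAtom V s) (h : Pres V d s) :
    ∃ s' : H, IsAtom V s' ∧ fixd V s' = fixd V s ∧ d * s' = s' * d := by
  obtain ⟨s', hs', he, hcom⟩ :=
    hs.isTop.exists_commute hc (s := d) (by rw [hd.mul_self hc, one_mul, mul_one]) h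
  exact ⟨s', hs.of_fixd_eq hs'.1 he, he, hcom⟩

/-- A top fixing the centre of a block is an atom of a block with the same centre. -/
theorem Block.exists_block (hh : Chr V) {s t : H} (hb : Block V s t) {d : H} (hd : IsTop V d)
    (hC : cen V s t ≤ fixd V d) : ∃ x : H, Block V d x ∧ cen V d x = cen V s t := by
  have key : ∀ {a b : H}, Block V a b → cen V a b ≤ fixd V d → ¬ Pres V d a →
      Block V d a ∧ cen V d a = cen V a b := by
    intro a b hab hC' hp
    have hbl : Block V d a := ⟨hab.left.of_not_pres hc hd hp, hab.left, hp⟩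
    refine ⟨hbl, (AddSubgroup.eq_of_le_of_card_ge (le_inf hC' inf_le_left) (le_of_eq ?_)).symm⟩
    have h1 := (hbl.symm hc).card_fixd hc hh
    rw [hab.card_fixd hc hh, cen_comm d a] at h1
    exact (Nat.eq_of_mul_eq_mul_right Nat.card_pos h1).symm
  by_cases hs : Pres V d s
  swap
  · exact ⟨s, key hb hC hs⟩
  by_cases ht : Pres V d t
  swap
  · exact ⟨t, (key (hb.symm hc) (by rwa [cen_comm]) ht).1,
      by rw [(key (hb.symm hc) (by rwa [cen_comm]) ht).2, cen_comm]⟩
  exfalso
  have hAd : fixd V d ≠ fixd V s := fun h => by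
    have := hb.left.of_fixd_eq hd.1 h
    exact (hb.congr_left hc this h).not_pres ht
  have hBd : fixd V d ≠ fixd V t := fun h => by
    have := hb.right.of_fixd_eq hd.1 h
    exact ((hb.congr_right hc this h).symm hc).not_pres hs
  obtain ⟨s', hs', hse, hsc⟩ := exists_commute_atom hc hd hb.left hs
  have hC' : cen V s' t = cen V s t := by rw [cen, cen, hse]
  rcases hh with h2 | h2
  · exact (hb.congr_left hc hs' hse).false_of_commute hc h2 hd (hC' ▸ hC) (hse ▸ hAd) hsc
  · obtain ⟨t', ht', hte, htc⟩ := exists_commute_atom hc hd hb.right ht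
    obtain ⟨r, hr, hr0⟩ := exists_root_ne_zero (V := V) hd.1
    refine hr0 ((AddSubgroup.eq_bot_iff_forall _).1 (root_inf_fixd_self hc h2 d) r
      (AddSubgroup.mem_inf.2 ⟨hr, hC (AddSubgroup.mem_inf.2 ⟨?_, ?_⟩)⟩))
    · exact hse ▸ hs'.isTop.root_le_of_commute hc hd (by rw [hse]; exact Ne.symm hAd) hsc.symm hr
    · exact hte ▸ ht'.isTop.root_le_of_commute hc hd (by rw [hte]; exact Ne.symm hBd) htc.symm hr

theorem Block.isAtom_of_isTop (hh : Chr V) {s t : H} (hb : Block V s t) {d : H} (hd : IsTop V d)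
    (hC : cen V s t ≤ fixd V d) : IsAtom V d :=
  (hb.exists_block hc hh hd hC).choose_spec.1.left

/-- A top fixing the centre, with another fixed group, meets the fixed group of `s` in the centre. -/
theorem Block.inf_eq (hh : Chr V) {s t : H} (hb : Block V s t) {d : H} (hd : IsTop V d)
    (hC : cen V s t ≤ fixd V d) (hne : fixd V d ≠ fixd V s) :
    fixd V s ⊓ fixd V d = cen V s t := by
  have hda := hb.isAtom_of_isTop hc hh hd hC
  refine (AddSubgroup.eq_of_le_of_card_ge (le_inf inf_le_left hC) ?_).symm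
  refine Nat.le_of_mul_le_mul_right ?_ (Nat.card_pos (α := root V d))
  rw [hb.left.card_root_eq hda,
    ← show _ = Nat.card ↥(fixd V s ⊓ fixd V t) * _ from hb.card_fixd hc hh]
  by_cases hp : Pres V d s
  · obtain ⟨s', hs', hse, hsc⟩ := exists_commute_atom hc hd hb.left hp
    rcases hh with h2 | h2
    · exact ((hb.congr_left hc hs' hse).false_of_commute hc h2 hd (by rwa [cen, hse]) (hse ▸ hne)
        hsc).elim
    · have h1 : root V s' ≤ fixd V d := hd.root_le_of_commute hc hs'.isTop (by rwa [hse]) hsc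
      have h3 : fixd V s' ⊔ root V s' = ⊤ := AddSubgroup.eq_top_of_card_eq _ (by
        rw [card_sup_of_inf_eq_bot (by rw [inf_comm]; exact root_inf_fixd_self hc h2 s'),
          card_fixd_mul_root])
      -- so `d` has all its displacements on `fixd s`
      have h4 : (fixd V s).map (disp d) = root V d := le_antisymm (map_disp_le_root _ _) (by
        rintro _ ⟨v, rfl⟩
        obtain ⟨a, ha, r, hr, rfl⟩ := AddSubgroup.mem_sup.1 (h3 ▸ AddSubgroup.mem_top v)
        refine ⟨a, hse ▸ ha, ?_⟩
        rw [map_add, show disp d r = 0 from h1 hr, add_zero])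
      rw [← card_inf_fixd_mul_map (fixd V s) d, h4, hb.left.card_root_eq hda]
  · rw [((⟨hda, hb.left, hp⟩ : Block V d s).symm hc).card_fixd hc hh, cen]

omit hc in
variable (V) in
/-- An atom fixing the centre. -/
def Mem (s t x : H) : Prop := IsAtom V x ∧ cen V s t ≤ fixd V x

omit hc in
theorem Block.mem_left {s t : H} (hb : Block V s t) : Mem V s t s := ⟨hb.left, inf_le_left⟩

omit hc in
theorem Block.mem_right {s t : H} (hb : Block V s t) : Mem V s t t := ⟨hb.right, inf_le_right⟩

omit hc in
theorem Mem.conj {s t x k : H} (hx : Mem V s t x) (hk : cen V s t ≤ fixd V k) :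
    Mem V s t (k * x * k⁻¹) :=
  ⟨hx.1.conj k, le_fixd_conj hk hx.2⟩

/-- The fixed groups of members meet in the centre. -/
theorem Block.mem_inf_eq (hh : Chr V) {s t : H} (hb : Block V s t) {x y : H} (hx : Mem V s t x)
    (hy : Mem V s t y) (hne : fixd V x ≠ fixd V y) : fixd V x ⊓ fixd V y = cen V s t := by
  obtain ⟨z, hz, hze⟩ := hb.exists_block hc hh hx.1.isTop hx.2
  rw [hz.inf_eq hc hh hy.1.isTop (hze ▸ hy.2) hne.symm, hze]

theorem Block.fixd_eq_of_mem (hh : Chr V) {s t : H} (hb : Block V s t) {x y : H} (hx : Mem V s t x)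
    (hy : Mem V s t y) {v : V} (hvx : v ∈ fixd V x) (hvy : v ∈ fixd V y) (hv : v ∉ cen V s t) :
    fixd V x = fixd V y :=
  by_contra fun hne => hv (hb.mem_inf_eq hc hh hx hy hne ▸ AddSubgroup.mem_inf.2 ⟨hvx, hvy⟩)

theorem Block.card_fixd_mem (hh : Chr V) {s t : H} (hb : Block V s t) {x : H} (hx : Mem V s t x) :
    Nat.card (fixd V x) = Nat.card (cen V s t) * Nat.card (root V s) := by
  rw [hb.left.card_fixd_eq hx.1, hb.card_fixd hc hh]

theorem Block.cen_lt_fixd_mem (hh : Chr V) {s t : H} (hb : Block V s t) {x : H} (hx : Mem V s t x) :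
    fixd V x ≠ cen V s t := fun h => by
  have h1 := hb.card_fixd_mem hc hh hx
  rw [h] at h1
  exact absurd h1 (Nat.lt_mul_iff_one_lt_right Nat.card_pos |>.2 hb.left.one_lt_root).ne

variable [Finite H]

/-- An element fixing the centre and a further vector is an atom. -/
theorem Block.isAtom_of_fix (hh : Chr V) {s t : H} (hb : Block V s t) {k : H} (hk : k ≠ 1)
    (hC : cen V s t ≤ fixd V k) {v : V} (hv : v ∈ fixd V k) (hvC : v ∉ cen V s t) : IsAtom V k := by
  obtain ⟨d, hd, hkd⟩ := exists_top_ge (V := V) hk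
  have hdm : Mem V s t d := ⟨hb.isAtom_of_isTop hc hh hd (hC.trans hkd), hC.trans hkd⟩
  have key : ∀ g : H, fixd V k ≤ fixd V g → g ≠ 1 → fixd V g ≤ fixd V d := fun g hg hg1 => by
    obtain ⟨d', hd', hgd⟩ := exists_top_ge (V := V) hg1
    rw [hb.fixd_eq_of_mem hc hh hdm ⟨hb.isAtom_of_isTop hc hh hd' (hC.trans (hg.trans hgd)),
      hC.trans (hg.trans hgd)⟩ (hkd hv) (hgd (hg hv)) hvC]
    exact hgd
  have hreg : ∀ {y : V}, y ∉ fixd V d → ∀ g : H, fixd V k ≤ fixd V g → g • y = y → g = 1 :=
    fun hy g hg hgy => by_contra fun hg1 => hy (key g hg hg1 (mem_fixd.2 hgy))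
  obtain ⟨y, hy⟩ := exists_not_mem_fixd (V := V) hd.1
  have hcom := commute_of_regular hc (hreg hy) (g := k) (k := d) le_rfl hkd
  have hkk := mul_self_of_regular hc (hreg hy) (k := k) le_rfl
  rcases hh with h2 | h2
  · -- no displacement of `k` is fixed by the block
    obtain ⟨x, hx, hxe⟩ := hb.exists_block hc (Or.inl h2) hd hdm.2
    have hxC : cen V s t ≤ fixd V x := hxe ▸ inf_le_right
    have hR : root V k ⊓ cen V s t = ⊥ := (AddSubgroup.eq_bot_iff_forall _).2 fun r hr => by
      obtain ⟨u, rfl⟩ := mem_root.1 (AddSubgroup.mem_inf.1 hr).1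
      have hru : x • (k • u - u) = k • u - u := mem_fixd.1 (hxC (AddSubgroup.mem_inf.1 hr).2)
      obtain ⟨m, h1, -, h3, h4⟩ := hc k (x * k * x⁻¹) u (x • u) (by
        rw [mul_smul, mul_smul, inv_smul_smul, ← smul_sub, hru])
      rw [← h1, sub_eq_zero]
      by_cases hm : m = 1
      · rw [hm, one_smul]
      exfalso
      have hmd := key m (fun a ha => mem_fixd.2 (h3 a (mem_fixd.1 ha))) hm
      have h5 : x • v ∈ fixd V d := hmd (mem_fixd.2 (h4 _ (mem_fixd.1
        (mem_fixd_conj.2 (by rwa [inv_smul_smul])))))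
      have h6 : x • v ∈ fixd V (x * d * x⁻¹) := mem_fixd_conj.2 (by rw [inv_smul_smul]; exact hkd hv)
      have h7 : fixd V (x * d * x⁻¹) ≠ fixd V d := fun he => (hx.symm hc).not_pres fun a ha =>
        he ▸ mem_fixd_conj.2 (by rwa [inv_smul_smul])
      have h8 : x • v ∈ cen V s t :=
        hb.mem_inf_eq hc (Or.inl h2) (hdm.conj hxC) hdm h7 ▸ AddSubgroup.mem_inf.2 ⟨h6, h5⟩
      have h9 := mem_fixd.1 (hxC h8)
      rw [← mul_smul, hx.right.isTop.mul_self hc, one_smul] at h9
      exact hvC (h9 ▸ h8)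
    refine hdm.1.of_root_le hk
      (Nat.le_of_mul_le_mul_left ?_ (Nat.card_pos (α := cen V s t)))
    rw [← card_sup_of_inf_eq_bot (by rwa [inf_comm]), hb.left.card_root_eq hdm.1,
      ← hb.card_fixd_mem hc (Or.inl h2) hdm]
    exact AddSubgroup.card_le_of_le (sup_le hdm.2 ((root_le_fixd_of_char_two h2 hkk).trans hkd))
  · obtain ⟨x, hx, hx0⟩ := exists_root_ne_zero (V := V) hd.1
    have hbot := (AddSubgroup.eq_bot_iff_forall _).1 (root_inf_fixd_self hc h2 d)
    have hxd : x ∉ fixd V d := fun h => hx0 (hbot x (AddSubgroup.mem_inf.2 ⟨hx, h⟩))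
    have hfix : k • x + x = 0 := hbot _ (AddSubgroup.mem_inf.2
      ⟨add_mem (smul_mem_root_of_commute hcom hx) hx, hkd (mem_fixd.2 (by
        rw [smul_add, ← mul_smul, hkk, one_smul, add_comm]))⟩)
    have h1 : k * d = 1 := hreg hxd _ (le_fixd_mul le_rfl hkd) (by
      rw [mul_smul, smul_of_mem_root (hd.mul_self hc) hx, smul_neg, eq_neg_iff_add_eq_zero.2 hfix,
        neg_neg])
    rw [eq_inv_of_mul_eq_one_left h1, hd.inv_eq hc]
    exact hdm.1

/-- Every vector outside the centre is fixed by a member. -/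
theorem Block.exists_mem_fix (hh : Chr V) {s t : H} (hb : Block V s t) {v : V}
    (hv : v ∉ cen V s t) : ∃ x : H, Mem V s t x ∧ v ∈ fixd V x := by
  by_contra hno
  refine hb.not_pres (pres_of_commute (commute_of_regular hc (C := cen V s t) (x := v) ?_
    inf_le_left inf_le_right))
  exact fun k hk hkv => by_contra fun hk1 =>
    hno ⟨k, ⟨hb.isAtom_of_fix hc hh hk1 hk (mem_fixd.2 hkv) hv, hk⟩, mem_fixd.2 hkv⟩

theorem Block.fixd_eq_cen (hh : Chr V) {s t : H} (hb : Block V s t) {h : H} (h1 : h ≠ 1)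
    (hC : cen V s t ≤ fixd V h) (hna : ¬ IsAtom V h) : fixd V h = cen V s t :=
  le_antisymm (fun _ hv => by_contra fun hvC => hna (hb.isAtom_of_fix hc hh h1 hC hv hvC)) hC

open Classical in
/-- There are `q + 1` fixed groups of members, `q` the order of a displacement group. -/
theorem Block.card_spaces [Fintype H] (hh : Chr V) {s t : H} (hb : Block V s t) :
    ((Finset.univ.filter (Mem V s t)).image (fixd V)).card = Nat.card (root V s) + 1 := by
  haveI := Fintype.ofFinite V
  set Sp := (Finset.univ.filter (Mem V s t)).image (fixd V) with hSp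
  set C := cen V s t
  have hmem : ∀ {D}, D ∈ Sp → ∃ x, Mem V s t x ∧ fixd V x = D := fun hD => by
    obtain ⟨x, hx, rfl⟩ := Finset.mem_image.1 hD
    exact ⟨x, (Finset.mem_filter.1 hx).2, rfl⟩
  have hdisj : (Sp : Set (AddSubgroup V)).PairwiseDisjoint
      fun D => Finset.univ.filter fun v => v ∈ D ∧ v ∉ C := by
    intro D hD D' hD' hne
    obtain ⟨x, hx, rfl⟩ := hmem hD
    obtain ⟨y, hy, rfl⟩ := hmem hD'
    rw [Function.onFun, Finset.disjoint_left]
    intro v hv hv'
    exact hne (hb.fixd_eq_of_mem hc hh hx hy (Finset.mem_filter.1 hv).2.1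
      (Finset.mem_filter.1 hv').2.1 (Finset.mem_filter.1 hv).2.2)
  have hU : (Finset.univ.filter fun v => v ∉ C) =
      Sp.biUnion fun D => Finset.univ.filter fun v => v ∈ D ∧ v ∉ C := by
    ext v
    simp only [Finset.mem_filter, Finset.mem_univ, true_and, Finset.mem_biUnion]
    refine ⟨fun hv => ?_, fun ⟨_, _, h⟩ => h.2⟩
    obtain ⟨x, hx, hvx⟩ := hb.exists_mem_fix hc hh hv
    exact ⟨_, Finset.mem_image_of_mem _ (by simpa using hx), hvx, hv⟩
  have hcard : ∀ D : AddSubgroup V, C ≤ D →
      (Finset.univ.filter fun v => v ∈ D ∧ v ∉ C).card = Nat.card D - Nat.card C := by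
    intro D hle
    have e1 : ∀ X : AddSubgroup V, Nat.card X = (Finset.univ.filter fun v => v ∈ X).card := fun X => by
      rw [Nat.card_eq_fintype_card, Fintype.card_subtype]
    rw [e1, e1, ← Finset.card_sdiff_of_subset (fun v hv => by simp at hv ⊢; exact hle hv)]
    congr 1
    ext v
    simp
  have h1 := congrArg Finset.card hU
  have h3 : ∀ D ∈ Sp, (Finset.univ.filter fun v => v ∈ D ∧ v ∉ C).card =
      Nat.card C * Nat.card (root V s) - Nat.card C := fun D hD => by
    obtain ⟨x, hx, rfl⟩ := hmem hD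
    rw [hcard _ hx.2, hb.card_fixd_mem hc hh hx]
  rw [Finset.card_biUnion hdisj, Finset.sum_congr rfl h3] at h1
  have h2 : (Finset.univ.filter fun v => v ∉ C).card = Nat.card V - Nat.card C := by
    have h := hcard ⊤ le_top
    rw [AddSubgroup.card_top] at h
    simpa using h
  rw [h2, Finset.sum_const, smul_eq_mul, hb.card_space hc hh] at h1
  obtain ⟨q, hq⟩ : ∃ q, Nat.card (root V s) = q + 2 :=
    ⟨Nat.card (root V s) - 2, by have := hb.left.one_lt_root; omega⟩
  rw [hq] at h1 ⊢
  have hc0 : 0 < Nat.card C := Nat.card_pos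
  have e1 : Nat.card C * (q + 2) - Nat.card C = Nat.card C * (q + 1) :=
    Nat.sub_eq_of_eq_add (by ring)
  have e2 : Nat.card C * (q + 2) * (q + 2) - Nat.card C = Nat.card C * (q + 1) * (q + 3) :=
    Nat.sub_eq_of_eq_add (by ring)
  rw [e1, e2] at h1
  exact (Nat.eq_of_mul_eq_mul_left (by positivity) (h1.trans (mul_comm _ _))).symm

end CfsgLib.BinaryAffine
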