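import Cfsg.Agent.BinaryAffine.Paired

/-!
# Binary affine groups: the plane of a block

The abelian group of a block moves everything into the plane, and the displacement groups of the members
partition the plane.
-/

set_option autoImplicit false
set_option linter.unusedSectionVars false
set_option linter.style.haveILetI false

namespace CfsgLib.BinaryAffine

variable {H V : Type*} [Group H] [AddCommGroup V] [DistribMulAction H V]
variable [FaithfulSMul H V] [Finite V] [Finite H]

variable (hc : Common H V) (hh : Chr V) {s t : H} (hb : Block V s t)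
include hc hh hb

theorem Block.mem_ne {x y : H} (hx : Mem V s t x) (hy : Mem V s t y) (hne : x ≠ y) :
    fixd V x ≠ fixd V y :=
  fun he => hne ((hb.paired hc hh).unique x y hx hy he)

theorem Block.mem_mul_mem {x y : H} (hx : Mem V s t x) (hy : Mem V s t y) :
    cen V s t ≤ fixd V (x * y) ∧ ¬ IsAtom V (x * y) := by
  refine ⟨le_fixd_mul hx.2 hy.2, ?_⟩
  by_cases he : x = y
  · rw [he, hy.1.isTop.mul_self hc]
    exact fun h => h.ne_one rfl
  · exact fun h => hb.ne_cen_of_atom hc hh h (hb.fixd_mul_mem hc hh hx hy (hb.mem_ne hc hh hx hy he))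

omit hc hh hb in
variable (V) in
/-- The elements fixing the centre that are no atoms. -/
def InBlockGroup (s t h : H) : Prop := cen V s t ≤ fixd V h ∧ ¬ IsAtom V h

theorem Block.group_mul_mem {h d : H} (hh' : InBlockGroup V s t h) (hd : Mem V s t d) :
    Mem V s t (h * d) := by
  by_cases h1 : h = 1
  · rwa [h1, one_mul]
  · exact (hb.paired hc hh).mul d h hd hh'.1 h1 hh'.2

theorem Block.mem_mul_group {h d : H} (hh' : InBlockGroup V s t h) (hd : Mem V s t d) :
    Mem V s t (d * h) := by
  have h1 := (hb.group_mul_mem hc hh hh' hd).conj hd.2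
  rwa [hd.1.isTop.inv_eq hc, mul_assoc, mul_assoc, hd.1.isTop.mul_self hc, mul_one] at h1

theorem Block.group_mul {g h : H} (hg : InBlockGroup V s t g) (hh' : InBlockGroup V s t h) :
    InBlockGroup V s t (g * h) := by
  have h1 := hb.mem_mul_mem hc hh (hb.group_mul_mem hc hh hg hb.mem_left)
    (hb.mem_mul_group hc hh hh' hb.mem_left)
  rwa [mul_assoc, ← mul_assoc s, hb.left.isTop.mul_self hc, one_mul] at h1

theorem Block.mem_conj_group {h d : H} (hh' : InBlockGroup V s t h) (hd : Mem V s t d) :
    d * h * d = h⁻¹ := by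
  have h1 := (hb.group_mul_mem hc hh hh' hd).1.isTop.mul_self hc
  rw [mul_assoc] at h1
  rw [mul_assoc]
  exact eq_inv_of_mul_eq_one_right h1

theorem Block.group_inv {h : H} (hh' : InBlockGroup V s t h) : InBlockGroup V s t h⁻¹ := by
  rw [← hb.mem_conj_group hc hh hh' hb.mem_left]
  exact hb.mem_mul_mem hc hh (hb.mem_mul_group hc hh hh' hb.mem_left) hb.mem_left

theorem Block.group_commute {g h : H} (hg : InBlockGroup V s t g) (hh' : InBlockGroup V s t h) :
    g * h = h * g := by
  have h1 := hb.mem_conj_group hc hh (hb.group_mul hc hh hg hh') hb.mem_left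
  have h2 : (g⁻¹ * h⁻¹ : H) = (g * h)⁻¹ := by
    rw [← hb.mem_conj_group hc hh hg hb.mem_left, ← hb.mem_conj_group hc hh hh' hb.mem_left, ← h1]
    calc s * g * s * (s * h * s) = s * g * (s * s) * h * s := by group
      _ = s * (g * h) * s := by rw [hb.left.isTop.mul_self hc]; group
  rw [← mul_inv_rev, inv_inj] at h2
  exact h2.symm

theorem Block.card_mem : Nat.card {x : H // Mem V s t x} = Nat.card (root V s) + 1 := by
  classical
  haveI := Fintype.ofFinite H
  rw [← hb.card_spaces hc hh, Nat.card_eq_fintype_card, Fintype.card_subtype,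
    Finset.card_image_of_injOn fun x hx y hy he =>
      (hb.paired hc hh).unique x y (Finset.mem_filter.1 hx).2 (Finset.mem_filter.1 hy).2 he]

theorem Block.card_group : Nat.card {h : H // InBlockGroup V s t h} = Nat.card (root V s) + 1 := by
  rw [← hb.card_mem hc hh]
  exact Nat.card_congr
    { toFun := fun h => ⟨h.1 * s, hb.group_mul_mem hc hh h.2 hb.mem_left⟩
      invFun := fun x => ⟨x.1 * s, hb.mem_mul_mem hc hh x.2 hb.mem_left⟩
      left_inv := fun h => Subtype.ext (by simp [mul_assoc, hb.left.isTop.mul_self hc])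
      right_inv := fun h => Subtype.ext (by simp [mul_assoc, hb.left.isTop.mul_self hc]) }

theorem Block.fixd_group {h : H} (hh' : InBlockGroup V s t h) (h1 : h ≠ 1) :
    fixd V h = cen V s t :=
  hb.fixd_eq_cen hc hh h1 hh'.1 hh'.2

theorem Block.card_root_group {h : H} (hh' : InBlockGroup V s t h) (h1 : h ≠ 1) :
    Nat.card (root V h) = Nat.card (plane V s t) := by
  refine Nat.eq_of_mul_eq_mul_left (Nat.card_pos (α := fixd V h)) ?_
  rw [card_fixd_mul_root, hb.fixd_group hc hh hh' h1, hb.card_plane hc, hb.card_space hc hh,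
    mul_assoc]

omit hc hh hb in
theorem root_mul_le {x y : H} {P : AddSubgroup V} (hy : root V y ≤ P) (hP : ∀ p ∈ P, x • p ∈ P)
    (hx : root V x ≤ P) : root V (x * y) ≤ P := by
  rintro _ ⟨v, rfl⟩
  have : disp (x * y) v = x • (y • v - v) + (x • v - v) := by
    rw [disp_apply, mul_smul, smul_sub]; abel
  rw [this]
  exact add_mem (hP _ (hy (disp_mem_root y v))) (hx (disp_mem_root x v))

omit hc hh hb in
theorem smul_mem_of_root_le {P : AddSubgroup V} {x : H} (hx : root V x ≤ P) {p : V} (hp : p ∈ P) :
    x • p ∈ P := by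
  have := add_mem (hx (disp_mem_root x p)) hp
  rwa [sub_add_cancel] at this

/-- The group of the block moves everything into the plane. -/
theorem Block.root_group {h : H} (hh' : InBlockGroup V s t h) (h1 : h ≠ 1) :
    root V h = plane V s t := by
  have hρ := hb.mem_mul_mem hc hh hb.mem_right hb.mem_left
  have hρ1 : t * s ≠ 1 := fun e => hb.fixd_ne (by
    rw [eq_inv_of_mul_eq_one_left e, hb.left.isTop.inv_eq hc])
  have hρr : root V (t * s) = plane V s t := AddSubgroup.eq_of_le_of_card_ge
    (root_mul_le le_sup_left (fun _ => smul_mem_of_root_le le_sup_right) le_sup_right)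
    (hb.card_root_group hc hh hρ hρ1).ge
  refine AddSubgroup.eq_of_le_of_card_ge ?_ (hb.card_root_group hc hh hh' h1).ge
  rintro _ ⟨v, rfl⟩
  obtain ⟨c, hc', w, hw, rfl⟩ :=
    AddSubgroup.mem_sup.1 (hb.cen_sup_plane hc hh ▸ AddSubgroup.mem_top v)
  rw [map_add, show disp h c = 0 from hh'.1 hc', zero_add, disp_apply]
  refine sub_mem ?_ hw
  rw [← hρr] at hw ⊢
  exact smul_mem_root_of_commute (hb.group_commute hc hh hh' hρ) hw

theorem Block.root_mem_le {x : H} (hx : Mem V s t x) : root V x ≤ plane V s t := by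
  have hg := hb.mem_mul_mem hc hh hx hb.mem_left
  have hle : root V (x * s) ≤ plane V s t := by
    by_cases h1 : x * s = 1
    · rintro _ ⟨v, rfl⟩
      rw [h1, disp_apply, one_smul, sub_self]
      exact zero_mem _
    · exact (hb.root_group hc hh hg h1).le
  have := root_mul_le (x := x * s) (y := s) le_sup_left (fun _ => smul_mem_of_root_le hle) hle
  rwa [mul_assoc, hb.left.isTop.mul_self hc, mul_one] at this

theorem Block.smul_mem_plane {x : H} (hx : Mem V s t x) {w : V} (hw : w ∈ plane V s t) :
    x • w ∈ plane V s t :=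
  smul_mem_of_root_le (hb.root_mem_le hc hh hx) hw

theorem Block.sup_root_eq {x y : H} (hx : Mem V s t x) (hy : Mem V s t y) (hne : x ≠ y) :
    root V x ⊔ root V y = plane V s t :=
  AddSubgroup.eq_of_le_of_card_ge (sup_le (hb.root_mem_le hc hh hx) (hb.root_mem_le hc hh hy)) (by
    rw [card_sup_of_inf_eq_bot (hx.1.isTop.root_inf_eq_bot hc hy.1.isTop (hb.mem_ne hc hh hx hy hne)),
      hb.card_plane hc, hb.left.card_root_eq hx.1, hb.left.card_root_eq hy.1])

omit hh in
theorem Block.exists_mem_ne (x : H) : ∃ y : H, Mem V s t y ∧ y ≠ x := by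
  by_cases he : s = x
  · exact ⟨t, hb.mem_right, fun h => hb.fixd_ne (by rw [he, h])⟩
  · exact ⟨s, hb.mem_left, he⟩

/-- Every nonzero vector of the plane is a displacement of a member. -/
theorem Block.exists_mem_root {w : V} (hw : w ∈ plane V s t) (hw0 : w ≠ 0) :
    ∃ x : H, Mem V s t x ∧ w ∈ root V x := by
  classical
  haveI := Fintype.ofFinite H
  haveI := Fintype.ofFinite V
  set M := Finset.univ.filter (Mem V s t)
  set nz := fun X : AddSubgroup V => Finset.univ.filter fun v => v ∈ X ∧ v ≠ 0 with hnz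
  have hM : ∀ {x}, x ∈ M → Mem V s t x := fun hx => (Finset.mem_filter.1 hx).2
  have hcard : ∀ X : AddSubgroup V, (nz X).card = Nat.card X - 1 := fun X => by
    have e : nz X = (Finset.univ.filter fun v => v ∈ X).erase 0 := by
      ext v; simp [hnz, and_comm]
    rw [e, Finset.card_erase_of_mem (by simp [zero_mem]), Nat.card_eq_fintype_card,
      Fintype.card_subtype]
  have hdisj : (M : Set H).PairwiseDisjoint fun x => nz (root V x) := fun x hx y hy hne =>
    Finset.disjoint_left.2 fun v hv hv' => by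
      simp [hnz] at hv hv'
      exact hv.2 ((AddSubgroup.eq_bot_iff_forall _).1
        ((hM hx).1.isTop.root_inf_eq_bot hc (hM hy).1.isTop (hb.mem_ne hc hh (hM hx) (hM hy) hne)) v
        (AddSubgroup.mem_inf.2 ⟨hv.1, hv'.1⟩))
  have hsub : (M.biUnion fun x => nz (root V x)) ⊆ nz (plane V s t) := fun v hv => by
    obtain ⟨x, hx, hv⟩ := Finset.mem_biUnion.1 hv
    simp [hnz] at hv ⊢
    exact ⟨hb.root_mem_le hc hh (hM hx) hv.1, hv.2⟩
  have heq : (M.biUnion fun x => nz (root V x)) = nz (plane V s t) := by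
    refine Finset.eq_of_subset_of_card_le hsub ?_
    rw [Finset.card_biUnion hdisj, Finset.sum_congr rfl fun x hx => by
      rw [hcard, hb.left.card_root_eq (hM hx).1], Finset.sum_const, smul_eq_mul, hcard,
      hb.card_plane hc]
    have hMc := hb.card_mem hc hh
    rw [Nat.card_eq_fintype_card, Fintype.card_subtype] at hMc
    rw [hMc]
    obtain ⟨q, hq⟩ : ∃ q, Nat.card (root V s) = q + 1 :=
      ⟨Nat.card (root V s) - 1, by have := hb.left.one_lt_root; omega⟩
    rw [hq, Nat.add_sub_cancel]
    exact Nat.sub_le_of_le_add (by ring_nf; omega)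
  have hmem : w ∈ nz (plane V s t) := by simp [hnz, hw, hw0]
  rw [← heq] at hmem
  obtain ⟨x, hx, hwx⟩ := Finset.mem_biUnion.1 hmem
  simp [hnz] at hwx
  exact ⟨x, hM hx, hwx.1⟩

theorem Block.card_fixd_inf_plane {x : H} (hx : Mem V s t x) :
    Nat.card ↥(fixd V x ⊓ plane V s t) = Nat.card (root V s) := by
  refine le_antisymm ?_ ?_
  · refine Nat.le_of_mul_le_mul_left ?_ (Nat.card_pos (α := cen V s t))
    rw [← card_sup_of_inf_eq_bot (eq_bot_iff.2 ((inf_le_inf_left _ inf_le_right).trans
      (hb.cen_inf_plane hc hh).le)), ← hb.card_fixd_mem hc hh hx]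
    exact AddSubgroup.card_le_of_le (sup_le hx.2 inf_le_left)
  · have h1 := card_le_inf_fixd_mul_root (plane V s t) x
    rw [hb.card_plane hc, hb.left.card_root_eq hx.1, inf_comm] at h1
    exact Nat.le_of_mul_le_mul_right h1 Nat.card_pos

omit hh in
theorem Block.cen_ne_of_not_mem {x : H} {a b : H} (hx : Mem V a b x) (hn : ¬ Mem V s t x) :
    cen V a b ≠ cen V s t := fun he => hn ⟨hx.1, he ▸ hx.2⟩

end CfsgLib.BinaryAffine
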