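import Cfsg.Agent.BinaryAffine.BlockGroup
import Cfsg.Agent.BinaryAffine.Beta

/-!
# Binary affine groups: the field

A block with trivial centre in an irreducible group: the group of the block generates a field `E` of order
`q ^ 2` over which `V` is one-dimensional, a member induces the Frobenius over the subfield of order `q`,
and the group of the block is that of the elements of norm one.
-/

set_option autoImplicit false
set_option linter.unusedSectionVars false
set_option linter.style.haveILetI false

namespace CfsgLib.BinaryAffine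

/-- `H` is the group of semilinear maps of norm one on a quadratic extension. -/
def IsNormOne (H V : Type*) [Group H] [AddCommGroup V] [DistribMulAction H V] : Prop :=
  ∃ (F E : Type) (_ : Field F) (_ : Fintype F) (_ : Field E) (_ : Fintype E) (_ : Algebra F E)
    (e : V ≃+ E), Module.finrank F E = 2 ∧
    (∀ h : H, ∃ (a : E) (φ : E ≃ₐ[F] E), Algebra.norm F a = 1 ∧ ∀ v : V, e (h • v) = a * φ (e v)) ∧
    ∀ (a : E) (φ : E ≃ₐ[F] E), Algebra.norm F a = 1 → ∃ h : H, ∀ v : V, e (h • v) = a * φ (e v)

variable {H : Type*} {V : Type} [Group H] [AddCommGroup V] [DistribMulAction H V]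
variable [FaithfulSMul H V] [Finite V] [Finite H]

theorem Block.endgame (hc : Common H V) (hh : Chr V) (hirr : Irred H V) {p : ℕ} [hp : Fact p.Prime]
    (hpV : ∀ v : V, p • v = 0) {s t : H} (hb : Block V s t) (hC : cen V s t = ⊥) : IsNormOne H V := by
  classical
  set q := Nat.card (root V s) with hq
  have hq1 : 1 < q := hb.left.one_lt_root
  have hmem : ∀ {x : H}, IsAtom V x → Mem V s t x := fun hx => ⟨hx, hC ▸ bot_le⟩
  let K : Subgroup H :=
    { carrier := {h | InBlockGroup V s t h}
      one_mem' := ⟨hC ▸ bot_le, fun h => h.ne_one rfl⟩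
      mul_mem' := hb.group_mul hc hh
      inv_mem' := hb.group_inv hc hh }
  have hK : ∀ {h : H}, h ∈ K ↔ InBlockGroup V s t h := Iff.rfl
  have hss : s * s = 1 := hb.left.isTop.mul_self hc
  have hHK : ∀ h : H, h ∈ K ∨ h * s ∈ K := fun h => by
    by_cases ha : IsAtom V h
    · exact Or.inr (hb.mem_mul_mem hc hh (hmem ha) hb.mem_left)
    · exact Or.inl ⟨hC ▸ bot_le, ha⟩
  have hcardK : Nat.card K = q + 1 := hb.card_group hc hh
  have hcardV : Nat.card V = q * q := by
    rw [hb.card_space hc hh, hC, AddSubgroup.card_bot, one_mul]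
  have hcardA : Nat.card (fixd V s) = q := by
    rw [hb.card_fixd hc hh, hC, AddSubgroup.card_bot, one_mul]
  -- the group of the block is irreducible
  have hKirr : ∀ X : AddSubgroup V, (∀ k ∈ K, ∀ x ∈ X, k • x ∈ X) → X ≠ ⊥ → X = ⊤ := by
    intro X hX hne
    obtain ⟨x, hx, hx0⟩ := (AddSubgroup.bot_or_exists_ne_zero X).resolve_left hne
    have hall : ∀ h : H, h • x ∈ X := by
      obtain ⟨d, hd, hdx⟩ := hb.exists_mem_fix hc hh (v := x) (by rw [hC]; simpa using hx0)
      intro h
      by_cases ha : IsAtom V h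
      · have := hX _ (hb.mem_mul_mem hc hh (hmem ha) hd) x hx
        rwa [mul_smul, mem_fixd.1 hdx] at this
      · exact hX h ⟨hC ▸ bot_le, ha⟩ x hx
    let Y : AddSubgroup V :=
      { carrier := {y | ∀ h : H, h • y ∈ X}
        add_mem' := fun ha hb h => by rw [smul_add]; exact add_mem (ha h) (hb h)
        zero_mem' := fun h => by rw [smul_zero]; exact zero_mem _
        neg_mem' := fun ha h => by rw [smul_neg]; exact neg_mem (ha h) }
    have hYX : Y ≤ X := fun y hy => one_smul H y ▸ hy 1
    rcases hirr Y (fun g y hy h => by rw [← mul_smul]; exact hy _) with h | h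
    · exact absurd (h ▸ (show x ∈ Y from hall)) (by simpa using hx0)
    · exact top_unique (h ▸ hYX)
  -- the field generated by the group of the block
  let act := DistribMulAction.toAddMonoidEnd H V
  have hact : ∀ (h : H) (v : V), act h v = h • v := fun _ _ => rfl
  have hend : ∀ {f g : AddMonoid.End V}, (∀ v, f v = g v) → f = g := fun h => AddMonoidHom.ext h
  have hinj : Function.Injective act := fun g h e => eq_of_smul_eq_smul (α := V) fun v => by
    rw [← hact, ← hact, e]
  set R := Subring.closure (act '' (K : Set H)) with hRdef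
  have hgen : ∀ {k}, k ∈ K → act k ∈ R := fun hk => Subring.subset_closure ⟨_, hk, rfl⟩
  have hcomm : IsMulCommutative R := Subring.isMulCommutative_closure (by
    rintro _ ⟨g, hg, rfl⟩ _ ⟨h, hh', rfl⟩
    rw [← map_mul, ← map_mul, hb.group_commute hc hh hg hh'])
  letI : CommRing R := { (inferInstance : Ring R) with mul_comm := hcomm.is_comm.comm }
  haveI : Finite (AddMonoid.End V) := Finite.of_injective (fun f => (f : V → V)) DFunLike.coe_injective
  haveI : Nontrivial V := by
    obtain ⟨r, hr, hr0⟩ := exists_root_ne_zero (V := V) hb.left.1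
    exact ⟨⟨r, 0, hr0⟩⟩
  have hker : ∀ f : R, (∃ v, v ≠ 0 ∧ (f : AddMonoid.End V) v = 0) → f = 0 := by
    rintro f ⟨v, hv0, hv⟩
    have htop := hKirr (f : AddMonoid.End V).ker (fun k hk w hw => by
      have e : (f : AddMonoid.End V) * act k = act k * (f : AddMonoid.End V) :=
        congrArg Subtype.val (mul_comm f ⟨act k, hgen hk⟩)
      have e2 : (f : AddMonoid.End V) (k • w) = k • (f : AddMonoid.End V) w := DFunLike.congr_fun e w
      show (f : AddMonoid.End V) (k • w) = 0
      exact e2.trans (by rw [show (f : AddMonoid.End V) w = 0 from hw, smul_zero]))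
      (fun h => hv0 (AddSubgroup.mem_bot.1 (h ▸ (show v ∈ (f : AddMonoid.End V).ker from hv))))
    exact Subtype.ext (hend fun w => AddMonoidHom.mem_ker.1 (htop ▸ AddSubgroup.mem_top w :
      w ∈ (f : AddMonoid.End V).ker))
  haveI : Nontrivial R := ⟨⟨0, 1, fun h => by
    obtain ⟨v, hv⟩ := exists_ne (0 : V)
    exact hv (DFunLike.congr_fun (congrArg Subtype.val h) v).symm⟩⟩
  haveI : IsDomain R := by
    haveI : NoZeroDivisors R := ⟨fun {a b} hab => by
      rw [or_iff_not_imp_right]
      intro hb0
      obtain ⟨v, hv⟩ : ∃ v, (b : AddMonoid.End V) v ≠ 0 := by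
        by_contra hno
        push Not at hno
        exact hb0 (Subtype.ext (hend hno))
      exact hker a ⟨_, hv, DFunLike.congr_fun (congrArg Subtype.val hab) v⟩⟩
    exact NoZeroDivisors.to_isDomain R
  haveI : Fintype R := Fintype.ofFinite R
  letI : Field R := Fintype.fieldOfDomain R
  obtain ⟨⟨v0, hv0A⟩, hv0'⟩ := @exists_ne (fixd V s)
    (Finite.one_lt_card_iff_nontrivial.1 (hcardA ▸ hq1)) 0
  have hv0 : v0 ≠ 0 := fun h => hv0' (Subtype.ext h)
  let ev : R →+ V := AddMonoidHom.mk' (fun f => (f : AddMonoid.End V) v0) fun f g => rfl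
  have hevb : Function.Bijective ev := by
    refine ⟨(injective_iff_map_eq_zero ev).2 fun f hf => hker f ⟨v0, hv0, hf⟩, ?_⟩
    rw [← AddMonoidHom.range_eq_top]
    refine hKirr _ (fun k hk x hx => ?_) fun h => hv0 (AddSubgroup.mem_bot.1 (h ▸ ⟨1, rfl⟩))
    obtain ⟨f, rfl⟩ := hx
    exact ⟨⟨act k, hgen hk⟩ * f, rfl⟩
  let ι : R ≃+ V := AddEquiv.ofBijective ev hevb
  have hι : ∀ f : R, ι f = (f : AddMonoid.End V) v0 := fun _ => rfl
  have hcardR : Nat.card R = q * q := by rw [Nat.card_congr ι.toEquiv, hcardV]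
  -- conjugation by `s`
  have hSS : act s * act s = 1 := by rw [← map_mul, hss, map_one]
  have hcl : ∀ {f : AddMonoid.End V}, f ∈ R → act s * f * act s ∈ R := by
    intro f hf
    induction hf using Subring.closure_induction with
    | mem x hx =>
      obtain ⟨k, hk, rfl⟩ := hx
      rw [← map_mul, ← map_mul, hb.mem_conj_group hc hh hk hb.mem_left]
      exact hgen (inv_mem hk)
    | zero => simp
    | one => rw [mul_one, hSS]; exact one_mem _
    | add x y _ _ hx hy => rw [mul_add, add_mul]; exact add_mem hx hy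
    | neg x _ hx => rw [mul_neg, neg_mul]; exact neg_mem hx
    | mul x y _ _ hx hy =>
      have := mul_mem hx hy
      rwa [show act s * x * act s * (act s * y * act s) = act s * (x * y) * act s by
        simp only [mul_assoc]; rw [← mul_assoc (act s) (act s), hSS, one_mul]] at this
  let σ : R →+* R :=
    { toFun := fun f => ⟨act s * f * act s, hcl f.2⟩
      map_one' := Subtype.ext (by simp [hSS])
      map_mul' := fun a b => Subtype.ext (by
        show act s * ((a : AddMonoid.End V) * b) * act s =
          act s * a * act s * (act s * b * act s)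
        simp only [mul_assoc]; rw [← mul_assoc (act s) (act s), hSS, one_mul])
      map_zero' := Subtype.ext (by simp)
      map_add' := fun a b => Subtype.ext (by
        show act s * ((a : AddMonoid.End V) + b) * act s = _
        rw [mul_add, add_mul]; rfl) }
  have hσ2 : ∀ f : R, σ (σ f) = f := fun f => Subtype.ext (by
    show act s * (act s * f * act s) * act s = f
    simp only [← mul_assoc]; rw [hSS, one_mul, mul_assoc, hSS, mul_one])
  have hσv : ∀ f : R, ι (σ f) = s • ι f := fun f => by
    show s • (f : AddMonoid.End V) (s • v0) = s • (f : AddMonoid.End V) v0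
    rw [mem_fixd.1 hv0A]
  -- it is the Frobenius of order `q`
  haveI : CharP R p := (CharP.charP_iff_prime_eq_zero hp.out).2 (Subtype.ext (hend fun v => by
    show ((R.subtype (p : R)) : AddMonoid.End V) v = 0
    rw [map_natCast, AddMonoid.End.natCast_apply]; exact hpV v))
  obtain ⟨n, -, hn⟩ : ∃ n, (∃ k, n ≤ k) ∧ q = p ^ n := by
    obtain ⟨k, -, hk⟩ := FiniteField.card R p
    rw [← Nat.card_eq_fintype_card, hcardR] at hk
    obtain ⟨n, hn, he⟩ := (Nat.dvd_prime_pow hp.out).1 (hk ▸ dvd_mul_right q q)
    exact ⟨n, ⟨k, hn⟩, he⟩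
  have hσpow : ∀ f : R, σ f = f ^ q := by
    intro f
    have key : ∀ (x : AddMonoid.End V) (hx : x ∈ R), σ ⟨x, hx⟩ = iterateFrobenius R p n ⟨x, hx⟩ := by
      intro x hx
      induction hx using Subring.closure_induction with
      | mem x hx =>
        obtain ⟨k, hk, rfl⟩ := hx
        refine Subtype.ext ?_
        rw [iterateFrobenius_def, ← hn]
        show act s * act k * act s = _
        rw [← map_mul, ← map_mul, hb.mem_conj_group hc hh hk hb.mem_left, SubmonoidClass.coe_pow,
          ← map_pow]
        congr 1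
        have h1 : k ^ (q + 1) = 1 := by
          have := congrArg Subtype.val (pow_card_eq_one' (x := (⟨k, hk⟩ : K)))
          rwa [hcardK] at this
        rw [pow_succ] at h1
        exact (eq_inv_of_mul_eq_one_left h1).symm
      | zero => exact (map_zero σ).trans (map_zero _).symm
      | one => exact (map_one σ).trans (map_one _).symm
      | add x y hx hy h1 h2 =>
        exact (map_add σ ⟨x, hx⟩ ⟨y, hy⟩).trans ((congrArg₂ (· + ·) h1 h2).trans (map_add _ _ _).symm)
      | neg x hx h1 => exact (map_neg σ ⟨x, hx⟩).trans ((congrArg Neg.neg h1).trans (map_neg _ _).symm)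
      | mul x y hx hy h1 h2 =>
        exact (map_mul σ ⟨x, hx⟩ ⟨y, hy⟩).trans ((congrArg₂ (· * ·) h1 h2).trans (map_mul _ _ _).symm)
    rw [key f.1 f.2, iterateFrobenius_def, ← hn]
  let F : Subfield R := RingHom.eqLocusField σ (RingHom.id R)
  have hF : ∀ {f : R}, f ∈ F ↔ σ f = f := Iff.rfl
  haveI : Fintype F := Fintype.ofFinite F
  have hcardF : Nat.card F = q := by
    rw [← hcardA]
    exact Nat.card_congr (ι.toEquiv.subtypeEquiv fun f => by
      rw [hF, mem_fixd, ← ι.injective.eq_iff, hσv]; rfl)
  have hrank : Module.finrank F R = 2 := by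
    have h := Module.natCard_eq_pow_finrank (K := F) (V := R)
    rw [hcardF, hcardR, ← pow_two] at h
    exact (Nat.pow_right_injective hq1 h).symm
  have hnorm : ∀ a : R, Algebra.norm F a = 1 ↔ a ^ (q + 1) = 1 := by
    intro a
    rw [← (algebraMap F R).injective.eq_iff, FiniteField.algebraMap_norm_eq_pow, map_one, hcardF, hcardR,
      show (q * q - 1) / (q - 1) = q + 1 from ?_]
    rw [show q * q - 1 = (q + 1) * (q - 1) by
      rw [← Nat.sq_sub_sq, one_pow, pow_two], Nat.mul_div_cancel _ (by omega)]
  have hgenpow : ∀ k : K, (⟨act k, hgen k.2⟩ : R) ^ (q + 1) = 1 := fun k => Subtype.ext (by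
    have h1 := congrArg Subtype.val (pow_card_eq_one' (x := k))
    rw [hcardK] at h1
    rw [SubmonoidClass.coe_pow, ← map_pow]
    show act ((k : H) ^ (q + 1)) = 1
    rw [show (k : H) ^ (q + 1) = 1 from h1, map_one])
  have hnormK : ∀ a : R, a ^ (q + 1) = 1 → ∃ k ∈ K, (a : AddMonoid.End V) = act k := by
    intro a ha
    haveI := Fintype.ofFinite K
    set T : Finset R := Finset.univ.image fun k : K => (⟨act k, hgen k.2⟩ : R) with hT
    have hTc : T.card = q + 1 := by
      rw [Finset.card_image_of_injective _ (fun k l h => Subtype.ext (hinj (congrArg Subtype.val h))),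
        Finset.card_univ, ← Nat.card_eq_fintype_card, hcardK]
    have hsub : T ⊆ (Polynomial.nthRoots (q + 1) (1 : R)).toFinset := by
      intro x hx
      obtain ⟨k, -, rfl⟩ := Finset.mem_image.1 hx
      rw [Multiset.mem_toFinset, Polynomial.mem_nthRoots (by omega)]
      exact hgenpow k
    have heq := Finset.eq_of_subset_of_card_le hsub
      (hTc ▸ (Multiset.toFinset_card_le _).trans (Polynomial.card_nthRoots _ _))
    have hmem : a ∈ T := by
      rw [heq, Multiset.mem_toFinset, Polynomial.mem_nthRoots (by omega)]; exact ha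
    obtain ⟨k, -, rfl⟩ := Finset.mem_image.1 hmem
    exact ⟨k, k.2, rfl⟩
  let Φ : R ≃ₐ[F] R :=
    { toFun := σ, invFun := σ, left_inv := hσ2, right_inv := hσ2
      map_mul' := map_mul σ, map_add' := map_add σ, commutes' := fun f => f.2 }
  have hΦ1 : Φ ≠ AlgEquiv.refl := fun h => hb.left.ne_one (eq_of_smul_eq_smul (α := V) fun v => by
    obtain ⟨f, rfl⟩ := ι.surjective v
    rw [one_smul, ← hσv]
    exact congrArg ι (DFunLike.congr_fun h f))
  have hauto : ∀ φ : R ≃ₐ[F] R, φ = AlgEquiv.refl ∨ φ = Φ := by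
    intro φ
    by_contra hne
    push Not at hne
    have h := AlgEquiv.card_le (F := F) (K := R)
    rw [hrank] at h
    have h3 : Finset.card {AlgEquiv.refl, Φ, φ} = 3 :=
      Finset.card_eq_three.2 ⟨_, _, _, hΦ1.symm, hne.1.symm, hne.2.symm, rfl⟩
    have := Finset.card_le_univ ({AlgEquiv.refl, Φ, φ} : Finset (R ≃ₐ[F] R))
    omega
  have hlin : ∀ (k : H) (hk : k ∈ K) (v : V), ι.symm (k • v) = ⟨act k, hgen hk⟩ * ι.symm v := by
    intro k hk v
    rw [AddEquiv.symm_apply_eq]
    show k • v = k • ι (ι.symm v)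
    rw [ι.apply_symm_apply]
  have hsemi : ∀ v : V, ι.symm (s • v) = Φ (ι.symm v) := fun v => by
    rw [AddEquiv.symm_apply_eq]
    show s • v = ι (σ (ι.symm v))
    rw [hσv, ι.apply_symm_apply]
  have hn1 : ∀ (k : H) (hk : k ∈ K), Algebra.norm F (⟨act k, hgen hk⟩ : R) = 1 := fun k hk =>
    (hnorm _).2 (hgenpow ⟨k, hk⟩)
  refine ⟨F, R, inferInstance, inferInstance, inferInstance, inferInstance, inferInstance, ι.symm, hrank,
    fun h => ?_, fun a φ ha => ?_⟩
  · rcases hHK h with hk | hk
    · exact ⟨_, AlgEquiv.refl, hn1 h hk, fun v => hlin h hk v⟩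
    · refine ⟨_, Φ, hn1 _ hk, fun v => ?_⟩
      rw [← hsemi, ← hlin _ hk, ← mul_smul, mul_assoc, hss, mul_one]
  · obtain ⟨k, hk, hak⟩ := hnormK a ((hnorm a).1 ha)
    obtain rfl : a = ⟨act k, hgen hk⟩ := Subtype.ext hak
    rcases hauto φ with rfl | rfl
    · exact ⟨k, fun v => hlin k hk v⟩
    · exact ⟨k * s, fun v => by rw [mul_smul, hlin k hk, hsemi]⟩

end CfsgLib.BinaryAffine
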