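import Cfsg.Agent.BinaryAffine.BetaOdd
import Cfsg.Agent.BinaryAffine.Field

/-!
# Binary affine groups: classification

An irreducible group with `Common` has order at most two on a space of prime order, or is the group of
norm-one semilinear maps of a quadratic extension.
-/

set_option autoImplicit false
set_option linter.unusedSectionVars false
set_option linter.style.haveILetI false

namespace CfsgLib.BinaryAffine

variable {H : Type*} {V : Type} [Group H] [AddCommGroup V] [DistribMulAction H V]
variable [FaithfulSMul H V] [Finite V] [Finite H]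

variable (H V) in
/-- What all atoms fix. -/
def fixAtoms : AddSubgroup V where
  carrier := {v | ∀ t : H, IsAtom V t → t • v = v}
  add_mem' ha hb t ht := by rw [smul_add, ha t ht, hb t ht]
  zero_mem' t _ := smul_zero t
  neg_mem' ha t ht := by rw [smul_neg, ha t ht]

theorem fixAtoms_invariant (h : H) (v : V) (hv : v ∈ fixAtoms H V) : h • v ∈ fixAtoms H V := by
  intro t ht
  have h1 := hv _ (ht.conj h⁻¹)
  rw [inv_inv, mul_smul, mul_smul, inv_smul_eq_iff] at h1
  exact h1

variable (hc : Common H V) (hirr : Irred H V)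
include hc hirr

theorem exists_block_of_no_regular (hh : Chr V) [Nontrivial V]
    (hreg : ∀ x : V, ∃ k : H, k • x = x ∧ k ≠ 1) : ∃ s t : H, Block V s t := by
  classical
  haveI := Fintype.ofFinite H
  by_contra hno
  push Not at hno
  have hpres : ∀ {s t : H}, IsAtom V s → IsAtom V t → Pres V s t := fun {s t} hs ht =>
    by_contra fun hp => hno s t ⟨hs, ht, hp⟩
  haveI : Nontrivial H := by
    obtain ⟨k, -, hk⟩ := hreg 0
    exact ⟨⟨k, 1, hk⟩⟩
  obtain ⟨s, hs⟩ := exists_atom (H := H) (V := V)
  have hne : fixAtoms H V ≠ ⊤ := fun h => hs.ne_one (eq_of_smul_eq_smul (α := V) fun v => by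
    rw [one_smul]
    exact (h ▸ AddSubgroup.mem_top v : v ∈ fixAtoms H V) s hs)
  have hX : fixAtoms H V = ⊥ := (hirr _ fixAtoms_invariant).resolve_right hne
  rcases id hh with h2 | h2
  · obtain ⟨r, hr, hr0⟩ := exists_root_ne_zero (V := V) hs.1
    refine hr0 (AddSubgroup.mem_bot.1 (hX ▸ (?_ : r ∈ fixAtoms H V)))
    intro t ht
    by_cases he : fixd V s = fixd V t
    · exact mem_fixd.1 (he ▸ root_le_fixd_of_char_two h2 (hs.isTop.mul_self hc) hr)
    · obtain ⟨t', ht', hte, hcom⟩ := exists_commute_atom hc hs.isTop ht (hpres hs ht)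
      exact mem_fixd.1 (hte ▸
        ht'.isTop.root_le_of_commute hc hs.isTop (by rw [hte]; exact Ne.symm he) hcom.symm hr)
  · have hroots : ∀ t : H, ∃ r : V, IsAtom V t → r ∈ root V t ∧ r ≠ 0 := fun t => by
      by_cases ht : IsAtom V t
      · obtain ⟨r, hr⟩ := exists_root_ne_zero (V := V) ht.1
        exact ⟨r, fun _ => hr⟩
      · exact ⟨0, fun h => absurd h ht⟩
    choose r hr using hroots
    set A := Finset.univ.filter fun t : H => IsAtom V t
    obtain ⟨k, hk, hk1⟩ := hreg (∑ t ∈ A, r t)
    obtain ⟨d, hd, hkd⟩ := exists_top_ge (V := V) hk1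
    have hda : IsAtom V d := by
      by_contra hna
      obtain ⟨w, hw, hw0⟩ := exists_root_ne_zero (V := V) hd.1
      refine hw0 (AddSubgroup.mem_bot.1 (hX ▸ (?_ : w ∈ fixAtoms H V)))
      intro t ht
      have hp : Pres V d t := by_contra fun hp => hna (ht.of_not_pres hc hd hp)
      obtain ⟨t', ht', hte, hcom⟩ := exists_commute_atom hc hd ht hp
      exact mem_fixd.1 (hte ▸ ht'.isTop.root_le_of_commute hc hd
        (fun he => hna (ht'.of_fixd_eq hd.1 he.symm)) hcom.symm hw)
    have hsum : ∑ t ∈ A, (d • r t - r t) = d • r d - r d := by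
      refine Finset.sum_eq_single d (fun t ht hne => ?_) fun h => absurd (by simp [A, hda]) h
      have hta : IsAtom V t := (Finset.mem_filter.1 ht).2
      rw [sub_eq_zero]
      exact mem_fixd.1 (root_le_of_pres_odd hc hh h2 hda hta hne.symm (hpres hda hta) (hr t hta).1)
    rw [Finset.sum_sub_distrib, ← Finset.smul_sum, mem_fixd.1 (hkd (mem_fixd.2 hk)), sub_self,
      smul_of_mem_root (hd.mul_self hc) (hr d hda).1] at hsum
    exact (hr d hda).2 (h2 _ (by rw [← neg_eq_zero, neg_add']; exact hsum.symm))

theorem classify [Nontrivial V] {p : ℕ} [hp : Fact p.Prime] (hpV : ∀ v : V, p • v = 0) :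
    ((Nat.card V).Prime ∧ Nat.card H ≤ 2) ∨ IsNormOne H V := by
  classical
  have hh : Chr V := by
    rcases hp.out.eq_two_or_odd' with h | h
    · exact Or.inl fun v => by rw [← two_nsmul, ← h]; exact hpV v
    · refine Or.inr fun v hv => ?_
      rw [← two_nsmul] at hv
      have h1 : addOrderOf v ∣ Nat.gcd 2 p :=
        Nat.dvd_gcd (addOrderOf_dvd_of_nsmul_eq_zero hv) (addOrderOf_dvd_of_nsmul_eq_zero (hpV v))
      rw [Nat.coprime_two_left.2 h, Nat.dvd_one, AddMonoid.addOrderOf_eq_one_iff] at h1
      exact h1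
  by_cases hreg : ∀ x : V, ∃ k : H, k • x = x ∧ k ≠ 1
  · right
    obtain ⟨s, t, hb⟩ := exists_block_of_no_regular hc hirr hh hreg
    by_cases hC : cen V s t = ⊥
    · exact hb.endgame hc hh hirr hpV hC
    obtain ⟨u, x, hu, hun, hx, hux⟩ := hb.exists_adjacent hc hh hirr hC
    rcases id hh with h2 | h2
    · exact (hb.false_two hc hh h2 hu hun hx hux).elim
    · exact (hb.false_odd hc hh h2 hpV hu hun hx hux).elim
  left
  push Not at hreg
  obtain ⟨x, hx⟩ := hreg
  have hx' : ∀ k : H, (⊥ : AddSubgroup V) ≤ fixd V k → k • x = x → k = 1 := fun k _ h => hx k h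
  -- every element is `1` or `-1`
  have hneg : ∀ h : H, h ≠ 1 → ∀ v : V, h • v = -v := by
    intro h h1 v
    rcases hirr (fixd V h) (fun g w hw => by
      rw [mem_fixd] at hw ⊢
      rw [← mul_smul, commute_of_regular hc hx' bot_le bot_le, mul_smul, hw]) with he | he
    · have : h • v + v ∈ fixd V h := by
        rw [mem_fixd, smul_add, ← mul_smul, mul_self_of_regular hc hx' bot_le, one_smul, add_comm]
      rw [he, AddSubgroup.mem_bot] at this
      exact eq_neg_of_add_eq_zero_left this
    · exact absurd (eq_one_of_fixd_eq_top (V := V) he) h1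
  refine ⟨?_, ?_⟩
  · obtain ⟨v, hv⟩ := exists_ne (0 : V)
    rcases hirr (AddSubgroup.zmultiples v) (fun h w hw => by
      by_cases h1 : h = 1
      · rwa [h1, one_smul]
      · rw [hneg h h1]; exact neg_mem hw) with he | he
    · exact absurd (AddSubgroup.mem_bot.1 (he ▸ AddSubgroup.mem_zmultiples v)) hv
    · rw [← AddSubgroup.card_top (G := V), ← he, Nat.card_zmultiples, addOrderOf_eq_prime (hpV v) hv]
      exact hp.out
  · refine (Nat.card_le_card_of_injective (fun h : H => decide (h = 1)) fun g h he => ?_).trans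
      (by simp)
    have he : decide (g = 1) = decide (h = 1) := he
    by_cases hg : g = 1
    · simp [hg] at he; rw [hg, he]
    · have hh1 : h ≠ 1 := fun e => by simp [hg, e] at he
      exact eq_of_smul_eq_smul (α := V) fun v => by rw [hneg g hg, hneg h hh1]

end CfsgLib.BinaryAffine
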