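import Cfsg.Agent.BinaryAffine.Block

/-!
# Binary affine groups: the group of a block

The members of a block have distinct fixed groups; the other elements fixing the centre form an abelian
group of order `q + 1`, inverted by every member.
-/

set_option autoImplicit false
set_option linter.unusedSectionVars false
set_option linter.style.haveILetI false

namespace CfsgLib.BinaryAffine

variable {H V : Type*} [Group H] [AddCommGroup V] [DistribMulAction H V]
variable [FaithfulSMul H V] [Finite V] [Finite H]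

variable (hc : Common H V) (hh : Chr V) {s t : H} (hb : Block V s t)
include hc hh hb

theorem Block.fixd_mul_mem {x y : H} (hx : Mem V s t x) (hy : Mem V s t y)
    (hne : fixd V x ≠ fixd V y) : fixd V (x * y) = cen V s t := by
  rw [hx.1.isTop.fixd_mul hc hy.1.isTop hne, hb.mem_inf_eq hc hh hx hy hne]

theorem Block.ne_cen_of_atom {x : H} (hx : IsAtom V x) : fixd V x ≠ cen V s t := fun h =>
  hb.cen_lt_fixd_mem hc hh ⟨hx, h.ge⟩ h

theorem Block.exists_fixd_not_cen {x : H} (hx : Mem V s t x) :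
    ∃ v ∈ fixd V x, v ∉ cen V s t := by
  by_contra hno
  push Not at hno
  exact hb.cen_lt_fixd_mem hc hh hx (le_antisymm hno hx.2)

omit hc hh hb in
theorem smul_not_mem_of_le {C : AddSubgroup V} {k : H} (hk : C ≤ fixd V k) {v : V} (hv : v ∉ C) :
    k • v ∉ C := fun h => by
  have h2 := smul_left_cancel k (mem_fixd.1 (hk h))
  exact hv (h2 ▸ h)

theorem Block.sq_fix_of_pres {h d : H} (hC : cen V s t ≤ fixd V h) (hd : Mem V s t d)
    (hp : Pres V h d) : fixd V d ≤ fixd V (h * h) := by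
  intro v hv
  by_cases hvC : v ∈ cen V s t
  · exact le_fixd_mul hC hC hvC
  obtain ⟨m, h1, h2, h3⟩ := exists_swap hc h v
  have hτC : cen V s t ≤ fixd V (h⁻¹ * m) := le_fixd_mul (by rwa [fixd_inv]) (hC.trans h3)
  have hτv : v ∈ fixd V (h⁻¹ * m) := mem_fixd.2 (by rw [mul_smul, h1, inv_smul_smul])
  have hτ : h • v ∈ fixd V (h⁻¹ * m) := by
    by_cases he : h⁻¹ * m = 1
    · rw [he, fixd_one]; exact AddSubgroup.mem_top _
    · rw [hb.fixd_eq_of_mem hc hh ⟨hb.isAtom_of_fix hc hh he hτC hτv hvC, hτC⟩ hd hτv hv hvC]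
      exact hp v hv
  rw [mem_fixd, mul_smul]
  conv_lhs => rw [← mem_fixd.1 hτ]
  rw [← mul_smul, mul_inv_cancel_left, h2]

theorem Block.not_pres_of_ne (h2 : ∀ v : V, v + v = 0) {x y : H} (hx : Mem V s t x)
    (hy : Mem V s t y) (hne : fixd V x ≠ fixd V y) : ¬ Pres V x y := by
  intro hp
  obtain ⟨y', hy', hye, hcom⟩ := exists_commute_atom hc hx.1.isTop hy.1 hp
  obtain ⟨z, hz, hze⟩ := hb.exists_block hc hh hy'.isTop (hye ▸ hy.2)
  exact hz.false_of_commute hc h2 hx.1.isTop (hze ▸ hx.2) (hye ▸ hne) hcom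

theorem Block.le_fixd_of_pres (h2 : ∀ v : V, v + v = 0) {h b : H} (hC : cen V s t ≤ fixd V h)
    (hbm : Mem V s t b) (hp : Pres V h b) : fixd V b ≤ fixd V h := by
  have hsq := hb.sq_fix_of_pres hc hh hC hbm hp
  obtain ⟨b', hb', hbe, hcom⟩ :=
    hbm.1.isTop.exists_commute hc (hbm.1.isTop.commute_of_le hc hsq le_rfl) hp
  obtain ⟨z, hz, hze⟩ := hb.exists_block hc hh hb' (hbe ▸ hbm.2)
  have hrC : ∀ r ∈ root V b', r ≠ 0 → r ∉ cen V s t := fun r hr hr0 hrc =>
    hr0 ((AddSubgroup.eq_bot_iff_forall _).1 ((hz.symm hc).root_inf_fixd hc) r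
      (AddSubgroup.mem_inf.2 ⟨hr, (hze ▸ inf_le_right : cen V s t ≤ fixd V z) hrc⟩))
  have hrB : root V b' ≤ fixd V b := hbe ▸ root_le_fixd_of_char_two h2 (hb'.mul_self hc)
  obtain ⟨w, hw, hw0⟩ := exists_root_ne_zero (V := V) hb'.1
  have hww : h • h • w = w := by rw [← mul_smul]; exact mem_fixd.1 (hsq (hrB hw))
  have hu : h • w - w ∈ root V b' := sub_mem (smul_mem_root_of_commute hcom hw) hw
  have hfix : h • (h • w - w) = h • w - w := by
    rw [smul_sub, hww, ← sub_eq_zero]
    have := h2 (w - h • w)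
    rw [← this]; abel
  obtain ⟨v, hvB, hvC, hvh⟩ : ∃ v ∈ fixd V b, v ∉ cen V s t ∧ v ∈ fixd V h := by
    by_cases hu0 : h • w - w = 0
    · exact ⟨w, hrB hw, hrC w hw hw0, mem_fixd.2 (sub_eq_zero.1 hu0)⟩
    · exact ⟨_, hrB hu, hrC _ hu hu0, mem_fixd.2 hfix⟩
  by_cases h1 : h = 1
  · rw [h1, fixd_one]; exact le_top
  exact (hb.fixd_eq_of_mem hc hh ⟨hb.isAtom_of_fix hc hh h1 hC hvh hvC, hC⟩ hbm hvh hvB hvC).ge

omit hc hh hb in
variable (V) in
/-- Members have distinct fixed groups, and a member times any other element fixing the centre is again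
a member. -/
structure Paired (s t : H) : Prop where
  unique : ∀ x y : H, Mem V s t x → Mem V s t y → fixd V x = fixd V y → x = y
  mul : ∀ d h : H, Mem V s t d → cen V s t ≤ fixd V h → h ≠ 1 → ¬ IsAtom V h → Mem V s t (h * d)

open Classical in
theorem Block.paired_two (h2 : ∀ v : V, v + v = 0) : Paired V s t := by
  haveI := Fintype.ofFinite H
  set q := Nat.card (root V s) with hq
  set M := Finset.univ.filter (Mem V s t) with hMdef
  set Kset := Finset.univ.filter fun g : H => cen V s t ≤ fixd V g with hKdef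
  have hM : ∀ {x : H}, x ∈ M ↔ Mem V s t x := by simp [hMdef]
  have hK : ∀ {x : H}, x ∈ Kset ↔ cen V s t ≤ fixd V x := by simp [hKdef]
  set cl := fun b : H => M.filter fun x => fixd V x = fixd V b with hcl
  have hcl' : ∀ {b x : H}, x ∈ cl b ↔ Mem V s t x ∧ fixd V x = fixd V b := by simp [hcl, hM]
  have hsub : ∀ b, cl b ⊆ M := fun b => Finset.filter_subset _ _
  -- the elements fixing the centre are few
  have hle : ∀ b, Mem V s t b → Kset.card ≤ ((cl b).card + 1) * (q + 1) := by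
    intro b hbm
    rw [hq, ← hb.card_spaces hc hh, ← hMdef]
    set f := fun k : H => fixd V (k * b * k⁻¹) with hf
    have hmaps : Kset.image f ⊆ M.image (fixd V) := by
      intro D hD
      obtain ⟨k, hk, rfl⟩ := Finset.mem_image.1 hD
      exact Finset.mem_image_of_mem _ (hM.2 (hbm.conj (hK.1 hk)))
    refine (Finset.card_le_mul_card_image Kset _ fun D hD => ?_).trans
      (Nat.mul_le_mul_left _ (Finset.card_le_card hmaps))
    obtain ⟨k0, hk0, rfl⟩ := Finset.mem_image.1 hD
    have h1 : ((Kset.filter fun k => f k = f k0).image fun k => k0⁻¹ * k) ⊆ insert 1 (cl b) := by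
      intro g hg
      obtain ⟨k, hk, rfl⟩ := Finset.mem_image.1 hg
      obtain ⟨hkK, hkf⟩ := Finset.mem_filter.1 hk
      have hCg : cen V s t ≤ fixd V (k0⁻¹ * k) :=
        le_fixd_mul (by rw [fixd_inv]; exact hK.1 hk0) (hK.1 hkK)
      have hpres : Pres V (k0⁻¹ * k) b := fun a ha => by
        have hkf : fixd V (k * b * k⁻¹) = fixd V (k0 * b * k0⁻¹) := hkf
        rw [mul_smul, ← mem_fixd_conj, ← hkf, mem_fixd_conj, inv_smul_smul]
        exact ha
      have hfix := hb.le_fixd_of_pres hc hh h2 hCg hbm hpres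
      rw [Finset.mem_insert, or_iff_not_imp_left]
      intro hg1
      have heq := hbm.1.isTop.2 _ hg1 hfix
      exact hcl'.2 ⟨⟨hbm.1.of_fixd_eq hg1 heq, hCg⟩, heq⟩
    exact ((Finset.card_image_of_injective _ fun a b hab => mul_left_cancel hab).ge.trans
      (Finset.card_le_card h1)).trans (Finset.card_insert_le _ _)
  set N := (Kset \ M).erase 1 with hN
  have h1M : (1 : H) ∉ M := fun h => (hM.1 h).1.1 rfl
  have hNcard : N.card + M.card + 1 = Kset.card := by
    have hsub' : M ⊆ Kset := fun x hx => hK.2 (hM.1 hx).2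
    have h1 : (1 : H) ∈ Kset \ M :=
      Finset.mem_sdiff.2 ⟨hK.2 (by rw [fixd_one]; exact le_top), h1M⟩
    rw [hN, add_right_comm, Finset.card_erase_add_one h1, Finset.card_sdiff_add_card_eq_card hsub']
  -- products of members with distinct fixed groups
  have hprod : ∀ b, Mem V s t b →
      Set.InjOn (fun p : H × H => p.1 * p.2) ↑(cl b ×ˢ (M \ cl b)) ∧
      ((cl b ×ˢ (M \ cl b)).image fun p => p.1 * p.2) ⊆ N := by
    intro b hbm
    have hne : ∀ {u v : H}, u ∈ cl b → v ∈ M \ cl b → fixd V u ≠ fixd V v := fun hu hv he =>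
      (Finset.mem_sdiff.1 hv).2 (hcl'.2 ⟨hM.1 (Finset.mem_sdiff.1 hv).1, he ▸ (hcl'.1 hu).2⟩)
    refine ⟨?_, ?_⟩
    · rintro ⟨u, v⟩ huv ⟨u', v'⟩ huv' he
      rw [Finset.mem_coe, Finset.mem_product] at huv huv'
      have he : u * v = u' * v' := he
      have hv := hM.1 (Finset.mem_sdiff.1 huv.2).1
      have hu := hcl'.1 huv.1
      have hu' := hcl'.1 huv'.1
      by_cases huu : u = u'
      · subst huu; rw [mul_left_cancel he]
      exfalso
      have hw1 : u'⁻¹ * u ≠ 1 := fun h => huu (inv_mul_eq_one.1 h).symm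
      have hwle : fixd V b ≤ fixd V (u'⁻¹ * u) := le_fixd_mul (by rw [fixd_inv, hu'.2]) hu.2.ge
      have hwe := hbm.1.isTop.2 _ hw1 hwle
      have hv' : v' = u'⁻¹ * u * v := by rw [mul_assoc, he, inv_mul_cancel_left]
      refine hb.cen_lt_fixd_mem hc hh (hM.1 (Finset.mem_sdiff.1 huv'.2).1) ?_
      rw [hv', hb.fixd_mul_mem hc hh ⟨hbm.1.of_fixd_eq hw1 hwe, hbm.2.trans hwle⟩ hv
        (by rw [hwe, ← hu.2]; exact hne huv.1 huv.2)]
    · intro g hg
      obtain ⟨⟨u, v⟩, huv, rfl⟩ := Finset.mem_image.1 hg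
      rw [Finset.mem_product] at huv
      have hu := (hcl'.1 huv.1).1
      have hv := hM.1 (Finset.mem_sdiff.1 huv.2).1
      have hf := hb.fixd_mul_mem hc hh hu hv (hne huv.1 huv.2)
      refine Finset.mem_erase.2 ⟨fun h => ?_, Finset.mem_sdiff.2 ⟨hK.2 (le_fixd_mul hu.2 hv.2),
        fun h => hb.cen_lt_fixd_mem hc hh (hM.1 h) hf⟩⟩
      simp only at h
      rw [h, fixd_one] at hf
      exact hb.left.ne_one (eq_one_of_fixd_eq_top (V := V)
        (eq_top_iff.2 (hf.le.trans inf_le_left)))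
  -- so each class is a single member
  have hclass : ∀ b, Mem V s t b → (M \ cl b).card = q ∧
      ∀ x ∈ M \ cl b, ∀ y ∈ M \ cl b, fixd V x = fixd V y → x = y := by
    intro b hbm
    have h1 := hle b hbm
    obtain ⟨hinj, hsub'⟩ := hprod b hbm
    have h3 : (cl b).card * (M \ cl b).card ≤ N.card := by
      rw [← Finset.card_product, ← Finset.card_image_of_injOn hinj]
      exact Finset.card_le_card hsub'
    have h4 : (M \ cl b).card + (cl b).card = M.card :=
      Finset.card_sdiff_add_card_eq_card (hsub b)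
    have himg : ((M \ cl b).image (fixd V)) = (M.image (fixd V)).erase (fixd V b) := by
      ext D
      simp only [Finset.mem_image, Finset.mem_sdiff, Finset.mem_erase, hcl', hM]
      constructor
      · rintro ⟨x, ⟨hx, hx'⟩, rfl⟩
        exact ⟨fun he => hx' ⟨hx, he⟩, x, hx, rfl⟩
      · rintro ⟨hne, x, hx, rfl⟩
        exact ⟨x, ⟨hx, fun h => hne h.2⟩, rfl⟩
    have h5 : ((M \ cl b).image (fixd V)).card = q := by
      have h6 := hb.card_spaces hc hh
      rw [← hMdef] at h6
      rw [himg, Finset.card_erase_of_mem (Finset.mem_image_of_mem _ (hM.2 hbm)), h6, hq,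
        Nat.add_sub_cancel]
    have h7 : q ≤ (M \ cl b).card := h5 ▸ Finset.card_image_le
    have h8 : (M \ cl b).card = q := by
      refine le_antisymm ?_ h7
      by_contra hlt
      push Not at hlt
      nlinarith [Nat.mul_le_mul_left ((cl b).card + 1) hlt]
    exact ⟨h8, fun x hx y hy he =>
      Finset.card_image_iff.1 (h5.trans h8.symm) hx hy he⟩
  have hsne : fixd V s ≠ fixd V t := hb.fixd_ne
  have huniq : ∀ x y : H, Mem V s t x → Mem V s t y → fixd V x = fixd V y → x = y := by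
    intro x y hx hy he
    obtain ⟨b, hbm, hbne⟩ : ∃ b, Mem V s t b ∧ fixd V x ≠ fixd V b := by
      by_cases hxs : fixd V x = fixd V s
      · exact ⟨t, hb.mem_right, hxs ▸ hsne⟩
      · exact ⟨s, hb.mem_left, hxs⟩
    exact (hclass b hbm).2 x (Finset.mem_sdiff.2 ⟨hM.2 hx, fun h => hbne (hcl'.1 h).2⟩)
      y (Finset.mem_sdiff.2 ⟨hM.2 hy, fun h => hbne (he ▸ (hcl'.1 h).2)⟩) he
  refine ⟨huniq, ?_⟩
  -- so every element that is no member is a product of a given member with another
  have hmulLeft : ∀ d h : H, Mem V s t d → cen V s t ≤ fixd V h → h ≠ 1 → ¬ IsAtom V h →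
      Mem V s t (d * h) := by
    intro d h hd hCh h1 hna
    have hcld : cl d = {d} := by
      ext x
      rw [hcl', Finset.mem_singleton]
      exact ⟨fun hx => huniq x d hx.1 hd hx.2, by rintro rfl; exact ⟨hd, rfl⟩⟩
    obtain ⟨hinj, hsub'⟩ := hprod d hd
    have hcard : N.card ≤ ((cl d ×ˢ (M \ cl d)).image fun p => p.1 * p.2).card := by
      rw [Finset.card_image_of_injOn hinj, Finset.card_product, (hclass d hd).1, hcld,
        Finset.card_singleton, one_mul]
      have h1 := hle d hd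
      rw [hcld, Finset.card_singleton] at h1
      have h4 := Finset.card_sdiff_add_card_eq_card (hsub d)
      rw [(hclass d hd).1, hcld, Finset.card_singleton] at h4
      omega
    have hhN : h ∈ N := Finset.mem_erase.2 ⟨h1, Finset.mem_sdiff.2 ⟨hK.2 hCh, fun h => hna (hM.1 h).1⟩⟩
    rw [← Finset.eq_of_subset_of_card_le hsub' hcard] at hhN
    obtain ⟨⟨u, v⟩, huv, rfl⟩ := Finset.mem_image.1 hhN
    rw [Finset.mem_product, hcld, Finset.mem_singleton] at huv
    simp only at huv ⊢
    rw [huv.1, ← mul_assoc, hd.1.isTop.mul_self hc, one_mul]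
    exact hM.1 (Finset.mem_sdiff.1 huv.2).1
  intro d h hd hCh h1 hna
  have hna' : ¬ IsAtom V h⁻¹ := fun ha => hna (by
    have h2' := ha.isTop.inv_eq hc
    rw [inv_inv] at h2'
    rwa [← h2'] at ha)
  have hm := hmulLeft d h⁻¹ hd (by rwa [fixd_inv]) (inv_ne_one.2 h1) hna'
  have he := hm.1.isTop.inv_eq hc
  rw [mul_inv_rev, inv_inv, hd.1.isTop.inv_eq hc] at he
  rwa [← he] at hm

theorem Block.commute_of_no_fix (h2 : ∀ v : V, v + v = 0 → v = 0) {z k : H}
    (hz : cen V s t ≤ fixd V z) (hzz : z * z = 1) (hz1 : z ≠ 1) (hna : ¬ IsAtom V z)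
    (hk : cen V s t ≤ fixd V k) : z * k = k * z := by
  have hfz := hb.fixd_eq_cen hc hh hz1 hz hna
  have hneg : ∀ v : V, z • v + v ∈ cen V s t := fun v => by
    rw [← hfz, mem_fixd, smul_add, ← mul_smul, hzz, one_smul, add_comm]
  rw [← mul_inv_eq_iff_eq_mul, ← mul_inv_eq_one]
  refine eq_of_smul_eq_smul (α := V) fun v => ?_
  rw [one_smul]
  refine disp_fixed_eq_zero hc h2 ?_
  set g := z * k * z⁻¹ * k⁻¹
  have hCg : cen V s t ≤ fixd V g :=
    le_fixd_mul (le_fixd_mul (le_fixd_mul hz hk) (by rwa [fixd_inv])) (by rwa [fixd_inv])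
  refine mem_fixd.1 (hCg ?_)
  set u := k⁻¹ • v
  set c1 := z • u + u with hc1
  have hk1 : k • c1 = c1 := mem_fixd.1 (hk (hneg u))
  have hz1' : z • c1 = c1 := mem_fixd.1 (hz (hneg u))
  have e : g • v = -(z • v) + c1 := by
    rw [show g • v = z • k • z⁻¹ • u from by simp only [g, u, mul_smul],
      inv_eq_of_mul_eq_one_left hzz, show z • u = -u + c1 by rw [hc1]; abel, smul_add, smul_neg,
      smul_inv_smul, hk1, smul_add, smul_neg, hz1']
  have e2 : g • v - v = c1 - (z • v + v) := by rw [e]; abel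
  rw [e2]
  exact sub_mem (hneg u) (hneg v)

theorem Block.paired_odd (h2 : ∀ v : V, v + v = 0 → v = 0) : Paired V s t := by
  have huniq : ∀ x y : H, Mem V s t x → Mem V s t y → fixd V x = fixd V y → x = y := fun x y hx hy he =>
    hy.1.isTop.eq_of_fixd_le hc h2 hx.1.1 he.ge
  refine ⟨huniq, fun d h hd hC h1 hna => ?_⟩
  have hCd : cen V s t ≤ fixd V (h * d) := le_fixd_mul hC hd.2
  by_cases hp : Pres V h d
  · have hcd : h * d = d * h := mul_inv_eq_iff_eq_mul.1
      (huniq _ _ (hd.conj hC) hd (fixd_conj_eq_of_pres hp))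
    obtain ⟨x, hx, hx0⟩ := exists_root_ne_zero (V := V) hd.1.1
    have hbot := (AddSubgroup.eq_bot_iff_forall _).1 (root_inf_fixd_self hc h2 d)
    have hxd : x ∉ fixd V d := fun h => hx0 (hbot x (AddSubgroup.mem_inf.2 ⟨hx, h⟩))
    have hxC : x ∉ cen V s t := fun h => hxd (hd.2 h)
    obtain ⟨d', hd', hxd'⟩ := hb.exists_mem_fix hc hh hxC
    have hdx := smul_of_mem_root (hd.1.isTop.mul_self hc) hx
    have hcdd : d * d' = d' * d := mul_inv_eq_iff_eq_mul.1 (huniq _ _ (hd'.conj hd.2) hd'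
      (hb.fixd_eq_of_mem hc hh (hd'.conj hd.2) hd' (v := x)
        (mem_fixd_conj.2 (by
          rw [hd.1.isTop.inv_eq hc, hdx]; exact neg_mem hxd')) hxd' hxC))
    have hne : fixd V d' ≠ fixd V d := fun he => hxd (he ▸ hxd')
    have hRd := hd'.1.isTop.root_le_of_commute hc hd.1.isTop hne hcdd.symm
    have hhx := smul_mem_root_of_commute hcd hx
    have hp' : Pres V h d' := fun a ha => by
      rw [← hb.fixd_eq_of_mem hc hh (hd'.conj hC) hd' (v := h • x)
        (mem_fixd_conj.2 (by rwa [inv_smul_smul])) (hRd hhx) (smul_not_mem_of_le hC hxC)]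
      exact mem_fixd_conj.2 (by rwa [inv_smul_smul])
    have hhh : h • h • x = x := by
      rw [← mul_smul]
      exact mem_fixd.1 (hb.sq_fix_of_pres hc hh hC hd' hp' hxd')
    have hneg : h • x + x = 0 := hbot _ (AddSubgroup.mem_inf.2 ⟨add_mem hhx hx, hd.2 (by
      rw [← hb.fixd_eq_cen hc hh h1 hC hna, mem_fixd, smul_add, hhh, add_comm])⟩)
    have hhd : h * d ≠ 1 := fun e => hna (by
      rw [eq_inv_of_mul_eq_one_left e, hd.1.isTop.inv_eq hc]; exact hd.1)
    refine ⟨hb.isAtom_of_fix hc hh hhd hCd (v := x) (mem_fixd.2 ?_) hxC, hCd⟩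
    rw [mul_smul, hdx, smul_neg, eq_neg_iff_add_eq_zero.2 hneg, neg_neg]
  · obtain ⟨v, hv, hvC⟩ := hb.exists_fixd_not_cen hc hh hd
    obtain ⟨m, hm1, hm2, hm3⟩ := exists_swap hc h v
    have hhv : h • v ∉ fixd V d := fun hm => hp fun a ha => by
      rw [← hb.fixd_eq_of_mem hc hh (hd.conj hC) hd (v := h • v)
        (mem_fixd_conj.2 (by rwa [inv_smul_smul])) hm (smul_not_mem_of_le hC hvC)]
      exact mem_fixd_conj.2 (by rwa [inv_smul_smul])
    have hCm : cen V s t ≤ fixd V m := hC.trans hm3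
    have hmm : m * m = 1 := by
      by_contra hne
      have hvm : v ∈ fixd V (m * m) := mem_fixd.2 (by rw [mul_smul, hm1, hm2])
      have := hb.fixd_eq_of_mem hc hh ⟨hb.isAtom_of_fix hc hh hne (le_fixd_mul hCm hCm) hvm hvC,
        le_fixd_mul hCm hCm⟩ hd hvm hv hvC
      exact hhv (this ▸ mem_fixd.2 (by rw [mul_smul, hm2, hm1]))
    have hm1' : m ≠ 1 := fun he => hhv (by rw [← hm1, he, one_smul]; exact hv)
    have hcases : m = h ∨ m = h * d := by
      by_cases he : h⁻¹ * m = 1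
      · exact Or.inl (inv_mul_eq_one.1 he).symm
      right
      have hCτ : cen V s t ≤ fixd V (h⁻¹ * m) := le_fixd_mul (by rwa [fixd_inv]) hCm
      have hvτ : v ∈ fixd V (h⁻¹ * m) := mem_fixd.2 (by rw [mul_smul, hm1, inv_smul_smul])
      have hτm : Mem V s t (h⁻¹ * m) := ⟨hb.isAtom_of_fix hc hh he hCτ hvτ hvC, hCτ⟩
      rw [← huniq _ _ hτm hd (hb.fixd_eq_of_mem hc hh hτm hd hvτ hv hvC), mul_inv_cancel_left]
    have hma : IsAtom V m := by
      by_contra hna'
      have hcm := hb.commute_of_no_fix hc hh h2 hCm hmm hm1' hna' hd.2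
      refine hp (pres_of_commute ?_)
      rcases hcases with rfl | rfl
      · exact hcm
      · rw [← mul_assoc] at hcm
        exact mul_right_cancel hcm
    rcases hcases with rfl | rfl
    · exact absurd hma hna
    · exact ⟨hma, hCd⟩

theorem Block.paired : Paired V s t := by
  rcases id hh with h2 | h2
  · exact hb.paired_two hc hh h2
  · exact hb.paired_odd hc hh h2

end CfsgLib.BinaryAffine
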