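import Mathlib

/-!
# Binary affine groups: fixed spaces and displacement groups

For a group `H` acting by automorphisms on a finite abelian group `V`, the affine group `V ⋊ H` is binary
only if two equal displacements `g v - v = h w - w` are realised by a single element fixing all that `g`
or `h` fix (`Common`). Everything below follows from this property alone.

`fixd h` is the group of fixed points, `root h` the group of displacements; a top is a nontrivial element
whose fixed group is maximal under inclusion, an atom one whose fixed group has maximal order.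
-/

set_option autoImplicit false
set_option linter.unusedSectionVars false

namespace CfsgLib.BinaryAffine

variable {H V : Type*} [Group H] [AddCommGroup V] [DistribMulAction H V]

variable (H V) in
/-- Two equal displacements are realised by one element. -/
def Common : Prop :=
  ∀ (g h : H) (v w : V), g • v - v = h • w - w →
    ∃ m : H, m • v = g • v ∧ m • w = h • w ∧ (∀ a : V, g • a = a → m • a = a) ∧
      ∀ b : V, h • b = b → m • b = b

/-- `v ↦ h v - v`. -/
def disp (h : H) : V →+ V :=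
  AddMonoidHom.mk' (fun v => h • v - v) fun v w => by rw [smul_add]; abel

theorem disp_apply (h : H) (v : V) : disp h v = h • v - v := rfl

variable (V) in
/-- The fixed points. -/
def fixd (h : H) : AddSubgroup V := (disp h).ker

variable (V) in
/-- The displacements. -/
def root (h : H) : AddSubgroup V := (disp h).range

@[simp] theorem mem_fixd {h : H} {v : V} : v ∈ fixd V h ↔ h • v = v := sub_eq_zero

theorem mem_root {h : H} {r : V} : r ∈ root V h ↔ ∃ v : V, h • v - v = r := Iff.rfl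

theorem disp_mem_root (h : H) (v : V) : h • v - v ∈ root V h := ⟨v, rfl⟩

theorem card_fixd_mul_root (h : H) :
    Nat.card (fixd V h) * Nat.card (root V h) = Nat.card V := by
  rw [root, ← AddSubgroup.index_ker]
  exact AddSubgroup.card_mul_index _

theorem fixd_one : fixd V (1 : H) = ⊤ := by
  ext v
  simp

theorem fixd_mul_ge (g h : H) : fixd V g ⊓ fixd V h ≤ fixd V (g * h) := by
  intro v hv
  rw [AddSubgroup.mem_inf, mem_fixd, mem_fixd] at hv
  rw [mem_fixd, mul_smul, hv.2, hv.1]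

theorem le_fixd_mul {C : AddSubgroup V} {g h : H} (hg : C ≤ fixd V g) (hh : C ≤ fixd V h) :
    C ≤ fixd V (g * h) :=
  (le_inf hg hh).trans (fixd_mul_ge g h)

theorem fixd_inv (h : H) : fixd V h⁻¹ = fixd V h := by
  ext v
  rw [mem_fixd, mem_fixd, inv_smul_eq_iff, eq_comm]

theorem mem_fixd_conj {k t : H} {v : V} : v ∈ fixd V (k * t * k⁻¹) ↔ k⁻¹ • v ∈ fixd V t := by
  rw [mem_fixd, mem_fixd, mul_smul, mul_smul, smul_eq_iff_eq_inv_smul k]

theorem le_fixd_conj {C : AddSubgroup V} {k t : H} (hk : C ≤ fixd V k) (ht : C ≤ fixd V t) :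
    C ≤ fixd V (k * t * k⁻¹) :=
  le_fixd_mul (le_fixd_mul hk ht) (by rwa [fixd_inv])

theorem mem_root_conj {k t : H} {r : V} (hr : r ∈ root V t) : k • r ∈ root V (k * t * k⁻¹) := by
  obtain ⟨v, rfl⟩ := mem_root.1 hr
  exact mem_root.2 ⟨k • v, by rw [mul_smul, mul_smul, inv_smul_smul, smul_sub]⟩

theorem card_fixd_conj (k t : H) : Nat.card (fixd V (k * t * k⁻¹)) = Nat.card (fixd V t) :=
  Nat.card_congr ((MulAction.toPerm (k⁻¹ : H)).subtypeEquiv fun _ => mem_fixd_conj)

variable [FaithfulSMul H V]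

theorem eq_one_of_fixd_eq_top {h : H} (hh : fixd V h = ⊤) : h = 1 :=
  eq_of_smul_eq_smul (α := V) fun v => by
    rw [one_smul]
    exact mem_fixd.1 (hh ▸ AddSubgroup.mem_top v)

theorem exists_not_mem_fixd {h : H} (hh : h ≠ 1) : ∃ v : V, v ∉ fixd V h := by
  by_contra hno
  push Not at hno
  exact hh (eq_one_of_fixd_eq_top (eq_top_iff.2 fun v _ => hno v))

theorem exists_root_ne_zero {h : H} (hh : h ≠ 1) : ∃ r ∈ root V h, r ≠ 0 := by
  obtain ⟨v, hv⟩ := exists_not_mem_fixd (V := V) hh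
  exact ⟨_, disp_mem_root h v, fun h0 => hv (mem_fixd.2 (sub_eq_zero.1 h0))⟩

variable (V) in
/-- Nontrivial, with maximal fixed group. -/
def IsTop (t : H) : Prop := t ≠ 1 ∧ ∀ g : H, g ≠ 1 → fixd V t ≤ fixd V g → fixd V g = fixd V t

variable (V) in
/-- Nontrivial, with fixed group of maximal order. -/
def IsAtom (t : H) : Prop := t ≠ 1 ∧ ∀ g : H, g ≠ 1 → Nat.card (fixd V g) ≤ Nat.card (fixd V t)

variable (V) in
/-- `s` stabilises the fixed group of `t`. -/
def Pres (s t : H) : Prop := ∀ a ∈ fixd V t, s • a ∈ fixd V t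

theorem pres_of_commute {s t : H} (h : s * t = t * s) : Pres V s t := fun a ha => by
  rw [mem_fixd] at ha ⊢
  rw [← mul_smul, ← h, mul_smul, ha]

theorem IsAtom.ne_one {t : H} (ht : IsAtom V t) : t ≠ 1 := ht.1

theorem IsTop.ne_one {t : H} (ht : IsTop V t) : t ≠ 1 := ht.1

variable [Finite V]

theorem IsAtom.isTop {t : H} (ht : IsAtom V t) : IsTop V t :=
  ⟨ht.1, fun g hg hle => (AddSubgroup.eq_of_le_of_card_ge hle (ht.2 g hg)).symm⟩

theorem IsAtom.root_le {t g : H} (ht : IsAtom V t) (hg : g ≠ 1) :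
    Nat.card (root V t) ≤ Nat.card (root V g) := by
  have h1 := card_fixd_mul_root (V := V) t
  have h2 := card_fixd_mul_root (V := V) g
  have h3 := ht.2 g hg
  have h4 : 0 < Nat.card (fixd V g) := Nat.card_pos
  nlinarith

theorem IsAtom.of_root_le {t d : H} (ht : IsAtom V t) (hd : d ≠ 1)
    (hle : Nat.card (root V d) ≤ Nat.card (root V t)) : IsAtom V d := by
  refine ⟨hd, fun g hg => (ht.2 g hg).trans ?_⟩
  have h1 := card_fixd_mul_root (V := V) t
  have h2 := card_fixd_mul_root (V := V) d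
  have h4 : 0 < Nat.card (root V d) := Nat.card_pos
  nlinarith

theorem IsAtom.card_root_eq {t d : H} (ht : IsAtom V t) (hd : IsAtom V d) :
    Nat.card (root V d) = Nat.card (root V t) :=
  le_antisymm (hd.root_le ht.1) (ht.root_le hd.1)

theorem IsAtom.card_fixd_eq {t d : H} (ht : IsAtom V t) (hd : IsAtom V d) :
    Nat.card (fixd V d) = Nat.card (fixd V t) :=
  le_antisymm (ht.2 d hd.1) (hd.2 t ht.1)

theorem IsAtom.conj {t : H} (ht : IsAtom V t) (k : H) : IsAtom V (k * t * k⁻¹) :=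
  ⟨fun h => ht.1 (conj_eq_one_iff.1 h), fun g hg => by rw [card_fixd_conj]; exact ht.2 g hg⟩

theorem fixd_conj_eq_of_pres {s t : H} (h : Pres V s t) : fixd V (s * t * s⁻¹) = fixd V t := by
  refine (AddSubgroup.eq_of_le_of_card_ge (fun v hv => ?_) (card_fixd_conj s t).le).symm
  -- `s` is bijective on the finite fixed group
  have hinj : Function.Injective fun a : fixd V t => (⟨s • (a : V), h a a.2⟩ : fixd V t) :=
    fun a b hab => Subtype.ext (smul_left_cancel s (congrArg Subtype.val hab))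
  obtain ⟨a, ha⟩ := Finite.injective_iff_surjective.1 hinj ⟨v, hv⟩
  rw [mem_fixd_conj, ← show s • (a : V) = v from congrArg Subtype.val ha, inv_smul_smul]
  exact a.2

theorem IsTop.conj {t : H} (ht : IsTop V t) (k : H) : IsTop V (k * t * k⁻¹) := by
  refine ⟨fun h => ht.1 (conj_eq_one_iff.1 h), fun g hg hle => ?_⟩
  have h1 := ht.2 (k⁻¹ * g * k⁻¹⁻¹) (fun h => hg (conj_eq_one_iff.1 h)) fun v hv => by
    rw [mem_fixd_conj, inv_inv]
    exact hle (mem_fixd_conj.2 (by rwa [inv_smul_smul]))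
  ext v
  rw [mem_fixd_conj, ← h1, mem_fixd_conj, inv_inv, smul_inv_smul]

theorem exists_top_ge [Finite H] {h : H} (hh : h ≠ 1) : ∃ t : H, IsTop V t ∧ fixd V h ≤ fixd V t := by
  classical
  haveI := Fintype.ofFinite H
  obtain ⟨t, ht, hmax⟩ := (Finset.univ.filter fun g : H => g ≠ 1 ∧ fixd V h ≤ fixd V g).exists_max_image
    (fun g => Nat.card (fixd V g)) ⟨h, by simp [hh]⟩
  rw [Finset.mem_filter] at ht
  exact ⟨t, ⟨ht.2.1, fun g hg hle => (AddSubgroup.eq_of_le_of_card_ge hle
    (hmax g (by simp [hg, ht.2.2.trans hle]))).symm⟩, ht.2.2⟩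

theorem exists_atom [Finite H] [Nontrivial H] : ∃ t : H, IsAtom V t := by
  classical
  haveI := Fintype.ofFinite H
  obtain ⟨a, ha⟩ := exists_ne (1 : H)
  obtain ⟨t, ht, hmax⟩ := (Finset.univ.filter fun g : H => g ≠ 1).exists_max_image
    (fun g => Nat.card (fixd V g)) ⟨a, by simp [ha]⟩
  rw [Finset.mem_filter] at ht
  exact ⟨t, ht.2, fun g hg => hmax g (by simp [hg])⟩

variable (hc : Common H V)
include hc

/-- Swapping `x` and `h x`. -/
theorem exists_swap (h : H) (x : V) :
    ∃ m : H, m • x = h • x ∧ m • h • x = x ∧ fixd V h ≤ fixd V m := by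
  obtain ⟨m, h1, h2, h3, -⟩ := hc h h⁻¹ x (-(h • x)) (by
    rw [smul_neg, inv_smul_smul]; abel)
  refine ⟨m, h1, ?_, fun a ha => mem_fixd.2 (h3 a (mem_fixd.1 ha))⟩
  rw [smul_neg, smul_neg, inv_smul_smul] at h2
  exact neg_injective h2

/-- A regular vector for a pointwise stabiliser makes it of exponent two. -/
theorem mul_self_of_regular {C : AddSubgroup V} {x : V}
    (hx : ∀ k : H, C ≤ fixd V k → k • x = x → k = 1) {k : H} (hk : C ≤ fixd V k) : k * k = 1 := by
  obtain ⟨m, h1, h2, h3⟩ := exists_swap hc k x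
  have hm : k⁻¹ * m = 1 := hx _ (le_fixd_mul (by rwa [fixd_inv]) (hk.trans h3))
    (by rw [mul_smul, h1, inv_smul_smul])
  rw [inv_mul_eq_one] at hm
  exact hx _ (le_fixd_mul hk hk) (by rw [mul_smul]; subst hm; exact h2)

theorem commute_of_regular {C : AddSubgroup V} {x : V}
    (hx : ∀ k : H, C ≤ fixd V k → k • x = x → k = 1) {g k : H} (hg : C ≤ fixd V g)
    (hk : C ≤ fixd V k) : g * k = k * g := by
  have h1 := mul_self_of_regular hc hx (le_fixd_mul hg hk)
  calc g * k = g * (g * k * (g * k)) * k := by rw [h1, mul_one]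
    _ = g * g * (k * g) * (k * k) := by group
    _ = k * g := by rw [mul_self_of_regular hc hx hg, mul_self_of_regular hc hx hk, one_mul, mul_one]

omit hc in
theorem IsTop.eq_of_agree {t g g' : H} (ht : IsTop V t) (hg : fixd V t ≤ fixd V g)
    (hg' : fixd V t ≤ fixd V g') {v : V} (hv : v ∉ fixd V t) (h : g • v = g' • v) : g = g' := by
  by_contra hne
  refine hv ((ht.2 (g⁻¹ * g') (fun h1 => hne (inv_mul_eq_one.1 h1))
    (le_fixd_mul (by rwa [fixd_inv]) hg')) ▸ mem_fixd.2 ?_)
  rw [mul_smul, ← h, inv_smul_smul]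

theorem IsTop.commute_of_le {t g k : H} (ht : IsTop V t) (hg : fixd V t ≤ fixd V g)
    (hk : fixd V t ≤ fixd V k) : g * k = k * g := by
  obtain ⟨x, hx⟩ := exists_not_mem_fixd (V := V) ht.1
  exact commute_of_regular hc (C := fixd V t) (x := x)
    (fun m hm hmx => ht.eq_of_agree hm (by rw [fixd_one]; exact le_top) hx (by rw [hmx, one_smul])) hg hk

theorem IsTop.mul_self_of_le {t g : H} (ht : IsTop V t) (hg : fixd V t ≤ fixd V g) : g * g = 1 := by
  obtain ⟨x, hx⟩ := exists_not_mem_fixd (V := V) ht.1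
  exact mul_self_of_regular hc (C := fixd V t) (x := x)
    (fun m hm hmx => ht.eq_of_agree hm (by rw [fixd_one]; exact le_top) hx (by rw [hmx, one_smul])) hg

theorem IsTop.mul_self {t : H} (ht : IsTop V t) : t * t = 1 := ht.mul_self_of_le hc le_rfl

theorem IsTop.inv_eq {t : H} (ht : IsTop V t) : t⁻¹ = t :=
  inv_eq_of_mul_eq_one_left (ht.mul_self hc)

/-- A displacement of a top is shared only inside its fixed group. -/
theorem IsTop.of_disp_eq {t h : H} (ht : IsTop V t) {v w : V} (hvw : t • v - v = h • w - w)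
    (hne : t • v ≠ v) : fixd V h ≤ fixd V t ∧ h • w = t • w := by
  obtain ⟨m, h1, h2, h3, h4⟩ := hc t h v w hvw
  have hm : m = t := ht.eq_of_agree (fun a ha => mem_fixd.2 (h3 a (mem_fixd.1 ha))) le_rfl
    (fun hv => hne (mem_fixd.1 hv)) h1
  subst hm
  exact ⟨fun b hb => mem_fixd.2 (h4 b (mem_fixd.1 hb)), h2.symm⟩

theorem IsTop.fixd_eq_of_root {s t : H} (hs : IsTop V s) (ht : IsTop V t) {r : V}
    (hrs : r ∈ root V s) (hrt : r ∈ root V t) (hr : r ≠ 0) : fixd V s = fixd V t := by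
  obtain ⟨v, hv⟩ := mem_root.1 hrt
  obtain ⟨w, hw⟩ := mem_root.1 hrs
  have h := (ht.of_disp_eq hc (hv.trans hw.symm) fun h => hr (by rw [← hv, h, sub_self])).1
  exact (hs.2 t ht.1 h).symm

theorem IsTop.root_inf_eq_bot {s t : H} (hs : IsTop V s) (ht : IsTop V t)
    (hne : fixd V s ≠ fixd V t) : root V s ⊓ root V t = ⊥ :=
  (AddSubgroup.eq_bot_iff_forall _).2 fun _ hr => by_contra fun h0 =>
    hne (hs.fixd_eq_of_root hc ht (AddSubgroup.mem_inf.1 hr).1 (AddSubgroup.mem_inf.1 hr).2 h0)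

/-- Elements of distinct tops fix in common only what both fix. -/
theorem IsTop.fixd_mul {s t : H} (hs : IsTop V s) (ht : IsTop V t) (hne : fixd V s ≠ fixd V t) :
    fixd V (s * t) = fixd V s ⊓ fixd V t := by
  refine le_antisymm (fun v hv => ?_) (fixd_mul_ge s t)
  rw [mem_fixd, mul_smul] at hv
  have hst : t • v = s • v := by
    conv_rhs => rw [← hv]
    rw [← mul_smul s s, hs.mul_self hc, one_smul]
  rw [AddSubgroup.mem_inf, mem_fixd, mem_fixd]
  by_contra hno
  have hsv : s • v ≠ v := fun h => hno ⟨h, hst.trans h⟩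
  exact hne (hs.fixd_eq_of_root hc ht (disp_mem_root s v) (hst ▸ disp_mem_root t v)
    (sub_ne_zero.2 hsv))

/-- An element fixing a nonzero displacement of a top stabilises its fixed group. -/
theorem IsTop.pres_of_fix_root {t s : H} (ht : IsTop V t) {r : V} (hr : r ∈ root V t) (h0 : r ≠ 0)
    (hs : s • r = r) : Pres V s t := by
  obtain ⟨v, hv⟩ := mem_root.1 hr
  have h := (ht.of_disp_eq hc (h := s * t * s⁻¹) (w := s • v) (v := v) (by
    rw [mul_smul, mul_smul, inv_smul_smul, ← smul_sub, hv, hs]) fun h => h0 (by rw [← hv, h, sub_self])).1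
  exact fun a ha => h (mem_fixd_conj.2 (by rwa [inv_smul_smul]))

/-- An element stabilising the fixed group of a top, whose square commutes with it, commutes with a top
of the same fixed group. -/
theorem IsTop.exists_commute {t s : H} (ht : IsTop V t) (hs : s * s * t = t * (s * s))
    (h : Pres V s t) :
    ∃ t' : H, IsTop V t' ∧ fixd V t' = fixd V t ∧ s * t' = t' * s := by
  set c := s * t * s⁻¹ with hcdef
  have hcf : fixd V c = fixd V t := fixd_conj_eq_of_pres h
  by_cases hct : c = t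
  · exact ⟨t, ht, rfl, mul_inv_eq_iff_eq_mul.1 (hcdef ▸ hct)⟩
  have hle : fixd V t ≤ fixd V (t * c) := le_fixd_mul le_rfl hcf.ge
  have hne : t * c ≠ 1 := fun h1 => hct (by rw [← inv_eq_of_mul_eq_one_right h1, ht.inv_eq hc])
  have heq := ht.2 _ hne hle
  refine ⟨t * c, ⟨hne, fun g hg hg' => by rw [heq] at hg' ⊢; exact ht.2 g hg hg'⟩, heq, ?_⟩
  have hcom : t * c = c * t := ht.commute_of_le hc le_rfl hcf.ge
  calc s * (t * c) = c * (s * s * t) * (s * s)⁻¹ * s := by rw [hcdef]; group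
    _ = c * t * s := by rw [hs]; group
    _ = t * c * s := by rw [hcom]

theorem IsTop.root_le_of_commute {s t : H} (hs : IsTop V s) (ht : IsTop V t)
    (hne : fixd V s ≠ fixd V t) (hst : s * t = t * s) : root V t ≤ fixd V s := by
  intro r hr
  obtain ⟨v, rfl⟩ := mem_root.1 hr
  have h1 : s • (t • v - v) - (t • v - v) = t • (s • v - v) - (s • v - v) := by
    rw [smul_sub, smul_sub, ← mul_smul, ← mul_smul, hst]; abel
  have h2 : s • (t • v - v) - (t • v - v) ∈ root V s ⊓ root V t :=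
    AddSubgroup.mem_inf.2 ⟨disp_mem_root s _, h1 ▸ disp_mem_root t _⟩
  rw [hs.root_inf_eq_bot hc ht hne, AddSubgroup.mem_bot, sub_eq_zero] at h2
  exact mem_fixd.2 h2

/-- If `s` does not stabilise the fixed group of `t`, it fixes none of its nonzero displacements. -/
theorem IsTop.root_inf_fixd_eq_bot {s t : H} (ht : IsTop V t) (h : ¬ Pres V s t) :
    root V t ⊓ fixd V s = ⊥ :=
  (AddSubgroup.eq_bot_iff_forall _).2 fun _ hr => by_contra fun h0 =>
    h (ht.pres_of_fix_root hc (AddSubgroup.mem_inf.1 hr).1 h0 (mem_fixd.1 (AddSubgroup.mem_inf.1 hr).2))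

theorem not_pres_symm {s t : H} (hs : IsTop V s) (ht : IsTop V t) (h : ¬ Pres V s t) :
    ¬ Pres V t s := by
  intro h'
  obtain ⟨s', hs', hfix, hcomm⟩ := hs.exists_commute hc (by rw [ht.mul_self hc, one_mul, mul_one]) h'
  have hne : fixd V s' ≠ fixd V t := by
    rw [hfix]
    exact fun he => h fun a ha => (mem_fixd.1 (he ▸ ha : a ∈ fixd V s)).symm ▸ ha
  have h1 := hs'.root_le_of_commute hc ht hne hcomm.symm
  obtain ⟨r, hr, hr0⟩ := exists_root_ne_zero (V := V) ht.1
  have h2 : r ∈ root V t ⊓ fixd V s := AddSubgroup.mem_inf.2 ⟨hr, hfix ▸ h1 hr⟩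
  rw [ht.root_inf_fixd_eq_bot hc h, AddSubgroup.mem_bot] at h2
  exact hr0 h2

omit hc in
theorem card_mul_le_of_inf_eq_bot {X Y : AddSubgroup V} (h : X ⊓ Y = ⊥) :
    Nat.card X * Nat.card Y ≤ Nat.card V := by
  rw [← Nat.card_prod]
  refine Nat.card_le_card_of_injective (fun p : X × Y => (p.1 : V) + p.2) ?_
  rintro ⟨x, y⟩ ⟨x', y'⟩ he
  have he' : (x : V) - x' = y' - y := by
    have he : (x : V) + y = x' + y' := he
    rw [eq_sub_iff_add_eq, sub_add_eq_add_sub, he, add_sub_cancel_left]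
  have hm : (x : V) - x' ∈ X ⊓ Y :=
    AddSubgroup.mem_inf.2 ⟨sub_mem x.2 x'.2, he' ▸ sub_mem y'.2 y.2⟩
  rw [h, AddSubgroup.mem_bot] at hm
  rw [hm] at he'
  exact Prod.ext (Subtype.ext (sub_eq_zero.1 hm)) (Subtype.ext (sub_eq_zero.1 he'.symm).symm)

theorem card_root_le_of_not_pres {s t : H} (ht : IsTop V t) (h : ¬ Pres V s t) :
    Nat.card (root V t) ≤ Nat.card (root V s) := by
  have h1 := card_mul_le_of_inf_eq_bot (ht.root_inf_fixd_eq_bot hc h)
  rw [← card_fixd_mul_root (V := V) s, mul_comm] at h1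
  exact Nat.le_of_mul_le_mul_left h1 Nat.card_pos

theorem IsAtom.of_not_pres {t d : H} (ht : IsAtom V t) (hd : IsTop V d) (h : ¬ Pres V d t) :
    IsAtom V d :=
  ht.of_root_le hd.1
    (card_root_le_of_not_pres hc hd (not_pres_symm hc hd ht.isTop h))

/-- In odd characteristic no element moves a vector by a nonzero fixed vector. -/
theorem disp_fixed_eq_zero (h2 : ∀ v : V, v + v = 0 → v = 0) {g : H} {v : V}
    (hr : g • (g • v - v) = g • v - v) : g • v = v := by
  have hgg : g • g • v = (g • v - v) + g • v := by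
    rw [← hr, smul_sub, sub_add_cancel]
  obtain ⟨m, h1, h3, -, -⟩ := hc g (g * g) (v + v) v (by
    rw [mul_smul, hgg, smul_add]; abel)
  rw [smul_add, smul_add, h3, mul_smul, hgg] at h1
  have h4 : (g • v - v) + (g • v - v) = 0 := by
    have := sub_eq_zero.2 h1
    rw [← this]; abel
  exact sub_eq_zero.1 (h2 _ h4)

omit hc in
theorem smul_of_mem_root {g : H} (hg : g * g = 1) {r : V} (hr : r ∈ root V g) : g • r = -r := by
  obtain ⟨v, rfl⟩ := mem_root.1 hr
  rw [smul_sub, ← mul_smul, hg, one_smul, neg_sub]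

omit hc in
theorem root_le_fixd_of_char_two (h2 : ∀ v : V, v + v = 0) {g : H} (hg : g * g = 1) :
    root V g ≤ fixd V g := fun r hr => by
  rw [mem_fixd, smul_of_mem_root hg hr, neg_eq_iff_add_eq_zero]
  exact h2 r

/-- In odd characteristic no nonzero displacement is fixed. -/
theorem root_inf_fixd_self (h2 : ∀ v : V, v + v = 0 → v = 0) (g : H) : root V g ⊓ fixd V g = ⊥ :=
  (AddSubgroup.eq_bot_iff_forall _).2 fun r hr => by
    obtain ⟨v, rfl⟩ := mem_root.1 (AddSubgroup.mem_inf.1 hr).1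
    rw [disp_fixed_eq_zero hc h2 (mem_fixd.1 (AddSubgroup.mem_inf.1 hr).2), sub_self]

omit hc in
theorem smul_mem_root_of_commute {g k : H} (h : g * k = k * g) {r : V} (hr : r ∈ root V k) :
    g • r ∈ root V k := by
  have := mem_root_conj (k := g) hr
  rwa [h, mul_inv_cancel_right] at this

/-- In odd characteristic a top is the only nontrivial element fixing what it fixes. -/
theorem IsTop.eq_of_fixd_le (h2 : ∀ v : V, v + v = 0 → v = 0) {t g : H} (ht : IsTop V t) (hg : g ≠ 1)
    (hle : fixd V t ≤ fixd V g) : g = t := by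
  obtain ⟨x, hx, hx0⟩ := exists_root_ne_zero (V := V) ht.1
  have hxt : x ∉ fixd V t := fun h => hx0 ((AddSubgroup.eq_bot_iff_forall _).1
    (root_inf_fixd_self hc h2 t) x (AddSubgroup.mem_inf.2 ⟨hx, h⟩))
  have hgx : g • x ∈ root V t :=
    smul_mem_root_of_commute (ht.commute_of_le hc hle le_rfl) hx
  have hfix : g • x + x = 0 := by
    refine (AddSubgroup.eq_bot_iff_forall _).1 (root_inf_fixd_self hc h2 t) _
      (AddSubgroup.mem_inf.2 ⟨add_mem hgx hx, ?_⟩)
    rw [← ht.2 g hg hle, mem_fixd, smul_add, ← mul_smul, ht.mul_self_of_le hc hle, one_smul, add_comm]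
  refine ht.eq_of_agree hle le_rfl hxt ?_
  rw [smul_of_mem_root (ht.mul_self hc) hx, ← eq_neg_iff_add_eq_zero.2 hfix]

omit hc in
theorem card_inf_fixd_mul_map (X : AddSubgroup V) (t : H) :
    Nat.card ↥(X ⊓ fixd V t) * Nat.card (X.map (disp t)) = Nat.card X := by
  set f : X →+ V := (disp t).comp X.subtype with hf
  have hr : f.range = X.map (disp t) := by rw [hf, AddMonoidHom.range_comp, AddSubgroup.range_subtype]
  have hk : Nat.card f.ker = Nat.card ↥(X ⊓ fixd V t) :=
    Nat.card_congr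
      { toFun := fun v => ⟨v.1.1, v.1.2, v.2⟩
        invFun := fun v => ⟨⟨v.1, v.2.1⟩, v.2.2⟩
        left_inv := fun _ => rfl
        right_inv := fun _ => rfl }
  rw [← hr, ← hk, ← AddSubgroup.index_ker]
  exact AddSubgroup.card_mul_index _

omit hc in
theorem map_disp_le_root (X : AddSubgroup V) (t : H) : X.map (disp t) ≤ root V t := by
  rintro _ ⟨v, -, rfl⟩
  exact disp_mem_root t v

omit hc in
theorem card_le_inf_fixd_mul_root (X : AddSubgroup V) (t : H) :
    Nat.card X ≤ Nat.card ↥(X ⊓ fixd V t) * Nat.card (root V t) := by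
  rw [← card_inf_fixd_mul_map X t]
  exact Nat.mul_le_mul_left _ (AddSubgroup.card_le_of_le (map_disp_le_root X t))

omit hc in
theorem card_sup_of_inf_eq_bot {X Y : AddSubgroup V} (h : X ⊓ Y = ⊥) :
    Nat.card ↥(X ⊔ Y) = Nat.card X * Nat.card Y := by
  rw [← Nat.card_prod]
  refine (Nat.card_eq_of_bijective (fun p : X × Y => (⟨(p.1 : V) + p.2,
    AddSubgroup.mem_sup.2 ⟨_, p.1.2, _, p.2.2, rfl⟩⟩ : ↥(X ⊔ Y))) ⟨?_, ?_⟩).symm
  · rintro ⟨x, y⟩ ⟨x', y'⟩ he
    have he : (x : V) + y = x' + y' := congrArg Subtype.val he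
    have he' : (x : V) - x' = y' - y := by
      rw [eq_sub_iff_add_eq, sub_add_eq_add_sub, he, add_sub_cancel_left]
    have hm : (x : V) - x' ∈ X ⊓ Y :=
      AddSubgroup.mem_inf.2 ⟨sub_mem x.2 x'.2, he' ▸ sub_mem y'.2 y.2⟩
    rw [h, AddSubgroup.mem_bot] at hm
    rw [hm] at he'
    exact Prod.ext (Subtype.ext (sub_eq_zero.1 hm)) (Subtype.ext (sub_eq_zero.1 he'.symm).symm)
  · rintro ⟨v, hv⟩
    obtain ⟨x, hx, y, hy, rfl⟩ := AddSubgroup.mem_sup.1 hv
    exact ⟨(⟨x, hx⟩, ⟨y, hy⟩), rfl⟩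

end CfsgLib.BinaryAffine
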