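import Cfsg.Agent.BinaryAffine.Main

/-!
# Binary affine groups: from the permutation group to the module

A primitive group with an abelian normal subgroup is `V ⋊ H`; binarity gives `Common` for `H`.
-/

set_option autoImplicit false
set_option linter.unusedSectionVars false
set_option linter.style.haveILetI false

namespace CfsgLib.BinaryAffine

open MulAction

/-- A finite module over `ZMod p` has coordinates. -/
theorem exists_coordinates_aux {p : ℕ} [Fact p.Prime] {A : Type*} [AddCommGroup A] [Finite A]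
    [Module (ZMod p) A] : ∃ (d : ℕ), Nonempty ((Fin d → ZMod p) ≃+ A) :=
  let B := Module.finBasis (ZMod p) A
  ⟨_, ⟨B.equivFun.symm.toAddEquiv⟩⟩

/-- An elementary abelian group has coordinates. -/
theorem exists_coordinates {A : Type*} [CommGroup A] [Finite A] {p : ℕ} [Fact p.Prime]
    (hexp : ∀ a : A, a ^ p = 1) :
    ∃ (d : ℕ) (el : (Fin d → ZMod p) → A), (∀ v w, el (v + w) = el v * el w) ∧ Function.Bijective el := by
  have hexp' : ∀ x : Additive A, p • x = 0 := fun x => Additive.toMul.injective (by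
    rw [toMul_nsmul, toMul_zero]; exact hexp _)
  haveI : Finite (Additive A) := Finite.of_equiv A Additive.ofMul
  obtain ⟨d, ⟨B⟩⟩ := @exists_coordinates_aux p _ (Additive A) _ _ (AddCommGroup.zmodModule hexp')
  exact ⟨d, fun v => Additive.toMul (B v), fun v w => by simp only [map_add, toMul_add],
    Additive.toMul.bijective.comp B.bijective⟩

theorem affine_aux {G Ω : Type*} [Group G] [Finite G] [MulAction G Ω] [FaithfulSMul G Ω] [Fintype Ω]
    (hprim : MulAction.IsPreprimitive G Ω)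
    (hbin : ∀ (n : ℕ) (I J : Fin n → Ω), 2 ≤ n →
      (∀ i j : Fin n, i ≠ j → ∃ g : G, g • I i = J i ∧ g • I j = J j) → ∃ g : G, ∀ i, g • I i = J i)
    (N : Subgroup G) [hNn : N.Normal] [MulAction.IsPretransitive N Ω]
    (hreg : ∀ {n : G}, n ∈ N → ∀ ω : Ω, n • ω = ω → n = 1)
    {V : Type} [AddCommGroup V] [Finite V] {p : ℕ} [Fact p.Prime] (hpV : ∀ v : V, p • v = 0)
    (el : V → G) (hel : ∀ v, el v ∈ N) (hel_add : ∀ v w, el (v + w) = el v * el w)
    (hel_inj : Function.Injective el) (hel_surj : ∀ {n}, n ∈ N → ∃ v, el v = n)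
    (hmv : ∃ n ∈ N, ∃ ω : Ω, n • ω ≠ ω) :
    ((Fintype.card Ω).Prime ∧ ∀ ω : Ω, Nat.card ↥(MulAction.stabilizer G ω) ≤ 2) ∨
    (∃ (F E : Type) (_ : Field F) (_ : Fintype F) (_ : Field E) (_ : Fintype E) (_ : Algebra F E) (e : Ω ≃ E),
        Module.finrank F E = 2 ∧
        ∀ σ : Equiv.Perm Ω, σ ∈ (MulAction.toPermHom G Ω).range ↔
          ∃ (a b : E) (φ : E ≃ₐ[F] E), Algebra.norm F a = 1 ∧ ∀ ω : Ω, e (σ ω) = a * φ (e ω) + b) := by
  classical
  haveI := hprim
  obtain ⟨n1, -, ω0, hω0⟩ := hmv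
  have hel_zero : el 0 = 1 := by
    have := hel_add 0 0
    rwa [add_zero, left_eq_mul] at this
  let pt : V → Ω := fun v => el v • ω0
  have hpt : Function.Bijective pt := by
    refine ⟨fun v w h => hel_inj ?_, fun ω => ?_⟩
    · have := hreg (mul_mem (inv_mem (hel w)) (hel v)) ω0 (by
        rw [mul_smul, show el v • ω0 = el w • ω0 from h, inv_smul_smul])
      exact (inv_mul_eq_one.1 this).symm
    · obtain ⟨⟨n, hn⟩, hω⟩ := MulAction.exists_smul_eq N ω0 ω
      obtain ⟨v, rfl⟩ := hel_surj hn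
      exact ⟨v, hω⟩
  have hpt0 : pt 0 = ω0 := by simp only [pt, hel_zero, one_smul]
  let π : V ≃ Ω := Equiv.ofBijective pt hpt
  let H : Subgroup G := MulAction.stabilizer G ω0
  have hH : ∀ h : H, (h : G) • ω0 = ω0 := fun h => h.2
  choose τ hτ using fun (h : H) (v : V) => hel_surj (hNn.conj_mem (el v) (hel v) (h : G))
  letI act : DistribMulAction H V :=
    { smul := τ
      one_smul := fun v => hel_inj (by show el (τ 1 v) = el v; rw [hτ]; simp)
      mul_smul := fun g h v => hel_inj (by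
        show el (τ (g * h) v) = el (τ g (τ h v))
        rw [hτ, hτ, hτ, Subgroup.coe_mul]; group)
      smul_zero := fun h => hel_inj (by show el (τ h 0) = el 0; rw [hτ, hel_zero]; group)
      smul_add := fun h v w => hel_inj (by
        show el (τ h (v + w)) = el (τ h v + τ h w)
        rw [hτ, hel_add, hel_add, hτ, hτ]; group) }
  have hact : ∀ (h : H) (v : V), (h : G) • pt v = pt (h • v) := fun h v => by
    show (h : G) • el v • ω0 = el (τ h v) • ω0
    rw [hτ, mul_smul, mul_smul, inv_smul_eq_iff.2 (hH h).symm]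
  have htr : ∀ v w, el v • pt w = pt (v + w) := fun v w => by
    simp only [pt, hel_add, mul_smul]
  -- every element is a translation times a stabilising element
  have hdec : ∀ g : G, ∃ (c : V) (h : H), ∀ v, g • pt v = pt (c + h • v) := fun g => by
    obtain ⟨c, hc⟩ := hpt.2 (g • ω0)
    have hc' : el c • ω0 = g • ω0 := hc
    refine ⟨c, ⟨(el c)⁻¹ * g, ?_⟩, fun v => ?_⟩
    · show ((el c)⁻¹ * g) • ω0 = ω0
      rw [mul_smul, ← hc', inv_smul_smul]
    · rw [← htr c, ← hact]
      show g • pt v = el c • ((el c)⁻¹ * g) • pt v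
      rw [← mul_smul (el c), mul_inv_cancel_left]
  haveI : FaithfulSMul H V := ⟨fun {g h} hgh => Subtype.ext (eq_of_smul_eq_smul (α := Ω) fun ω => by
    obtain ⟨v, rfl⟩ := hpt.2 ω
    rw [hact, hact, hgh v])⟩
  haveI : Nontrivial Ω := ⟨⟨_, _, hω0⟩⟩
  haveI : Nontrivial V := π.nontrivial
  haveI : MulAction.IsPretransitive G Ω := inferInstance
  have hirr : Irred H V := by
    intro X hX
    let L : Subgroup G :=
      { carrier := {g | ∃ (c : V) (h : H), c ∈ X ∧ ∀ v, g • pt v = pt (c + h • v)}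
        one_mem' := ⟨0, 1, zero_mem _, fun v => by rw [one_smul, one_smul, zero_add]⟩
        mul_mem' := by
          rintro g g' ⟨c, h, hc, hg⟩ ⟨c', h', hc', hg'⟩
          exact ⟨c + h • c', h * h', add_mem hc (hX h c' hc'), fun v => by
            rw [mul_smul, hg', hg, smul_add, mul_smul, add_assoc]⟩
        inv_mem' := by
          rintro g ⟨c, h, hc, hg⟩
          refine ⟨-(h⁻¹ • c), h⁻¹, neg_mem (hX _ c hc), fun v => ?_⟩
          rw [inv_smul_eq_iff, hg, smul_add, smul_neg, smul_inv_smul, smul_inv_smul,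
            add_neg_cancel_left] }
    have hle : H ≤ L := fun g hg => ⟨0, ⟨g, hg⟩, zero_mem _, fun v => by
      rw [zero_add]; exact hact ⟨g, hg⟩ v⟩
    have hcoatom := (MulAction.isCoatom_stabilizer_iff_preprimitive G ω0).2 hprim
    rcases hcoatom.le_iff.1 hle with h | h
    · right
      refine eq_top_iff.2 fun v _ => ?_
      obtain ⟨c, k, hc, hk⟩ : el v ∈ L := h ▸ Subgroup.mem_top _
      have h1 := hk 0
      rw [htr, smul_zero] at h1
      rw [add_zero, add_zero] at h1
      rw [hpt.1 h1]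
      exact hc
    · left
      refine (AddSubgroup.eq_bot_iff_forall _).2 fun v hv => ?_
      have : el v ∈ L := ⟨v, 1, hv, fun w => by rw [htr, one_smul]⟩
      rw [h] at this
      have h1 : pt v = pt 0 := by rw [hpt0]; exact this
      exact hpt.1 h1
  have hcommon : Common H V := by
    intro g h v w hvw
    haveI := Fintype.ofFinite V
    let T := Unit ⊕ {a : V // g • a = a} ⊕ {b : V // h • b = b}
    let I : T → V := Sum.elim (fun _ => 0) (Sum.elim (fun a => v + a) (fun b => w + b))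
    let J : T → V := Sum.elim (fun _ => 0) (Sum.elim (fun a => g • v + a) (fun b => h • w + b))
    haveI : Fintype T := Fintype.ofFinite T
    let e : Fin (Fintype.card T) ≃ T := (Fintype.equivFin T).symm
    have hn : 2 ≤ Fintype.card T := by
      have : Nontrivial T := ⟨⟨Sum.inl (), Sum.inr (Sum.inl ⟨0, smul_zero g⟩), Sum.inl_ne_inr⟩⟩
      exact Fintype.one_lt_card
    have hpair : ∀ i j : T, ∃ x : G, x • pt (I i) = pt (J i) ∧ x • pt (I j) = pt (J j) := by
      have hg : ∀ a : {a : V // g • a = a}, g • (v + a) = g • v + a := fun a => by rw [smul_add, a.2]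
      have hh : ∀ b : {b : V // h • b = b}, h • (w + b) = h • w + b := fun b => by rw [smul_add, b.2]
      have htA : ∀ a : V, el (g • v - v) • pt (v + a) = pt (g • v + a) := fun a => by
        rw [htr]; congr 1; abel
      have htB : ∀ b : V, el (g • v - v) • pt (w + b) = pt (h • w + b) := fun b => by
        rw [htr, hvw]; congr 1; abel
      rintro (_ | a | b) (_ | a' | b') <;> simp only [I, J, Sum.elim_inl, Sum.elim_inr]
      · exact ⟨1, one_smul _ _, one_smul _ _⟩
      · exact ⟨g, by rw [hact, smul_zero], by rw [hact, hg]⟩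
      · exact ⟨h, by rw [hact, smul_zero], by rw [hact, hh]⟩
      · exact ⟨g, by rw [hact, hg], by rw [hact, smul_zero]⟩
      · exact ⟨g, by rw [hact, hg], by rw [hact, hg]⟩
      · exact ⟨_, htA a, htB b'⟩
      · exact ⟨h, by rw [hact, hh], by rw [hact, smul_zero]⟩
      · exact ⟨_, htB b, htA a'⟩
      · exact ⟨h, by rw [hact, hh], by rw [hact, hh]⟩
    obtain ⟨x, hx⟩ := hbin _ (fun i => pt (I (e i))) (fun i => pt (J (e i))) hn
      fun i j _ => hpair (e i) (e j)
    have hx' : ∀ i : T, x • pt (I i) = pt (J i) := fun i => by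
      simpa using hx (e.symm i)
    obtain ⟨c, m, hm⟩ := hdec x
    have hc0 : c = 0 := by
      have := hx' (Sum.inl ())
      rw [hm] at this
      simpa [I, J] using hpt.1 this
    have hA : ∀ a : V, g • a = a → m • (v + a) = g • v + a := fun a ha => by
      have := hx' (Sum.inr (Sum.inl ⟨a, ha⟩))
      rw [hm, hc0, zero_add] at this
      simpa [I, J] using hpt.1 this
    have hB : ∀ b : V, h • b = b → m • (w + b) = h • w + b := fun b hb => by
      have := hx' (Sum.inr (Sum.inr ⟨b, hb⟩))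
      rw [hm, hc0, zero_add] at this
      simpa [I, J] using hpt.1 this
    have hmv : m • v = g • v := by simpa using hA 0 (smul_zero g)
    have hmw : m • w = h • w := by simpa using hB 0 (smul_zero h)
    refine ⟨m, hmv, hmw, fun a ha => ?_, fun b hb => ?_⟩
    · have := hA a ha; rwa [smul_add, hmv, add_right_inj] at this
    · have := hB b hb; rwa [smul_add, hmw, add_right_inj] at this
  rcases classify hcommon hirr hpV with ⟨hprime, hcard⟩ | ⟨F, E, iF, iF', iE, iE', iA, e, hrank, hto, hof⟩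
  · left
    rw [← Nat.card_eq_fintype_card, ← Nat.card_congr π]
    refine ⟨hprime, fun ω => ?_⟩
    obtain ⟨g, rfl⟩ := MulAction.exists_smul_eq G ω0 ω
    rw [← Nat.card_congr (MulAction.stabilizerEquivStabilizer (g := g) (a := ω0) rfl).toEquiv]
    exact hcard
  · right
    refine ⟨F, E, iF, iF', iE, iE', iA, π.symm.trans e.toEquiv, hrank, fun σ => ?_⟩
    have hπ : ∀ v, π.symm (pt v) = v := fun v => π.symm_apply_apply v
    constructor
    · rintro ⟨g, rfl⟩
      obtain ⟨c, h, hg⟩ := hdec g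
      obtain ⟨a, φ, ha, hφ⟩ := hto h
      refine ⟨a, e c, φ, ha, fun ω => ?_⟩
      obtain ⟨v, rfl⟩ := hpt.2 ω
      show e (π.symm (g • pt v)) = a * φ (e (π.symm (pt v))) + e c
      rw [hg, hπ, hπ, map_add, hφ, add_comm]
    · rintro ⟨a, b, φ, ha, hσ⟩
      obtain ⟨h, hh⟩ := hof a φ ha
      refine ⟨el (e.symm b) * h, Equiv.ext fun ω => ?_⟩
      obtain ⟨v, rfl⟩ := hpt.2 ω
      show (el (e.symm b) * (h : G)) • pt v = σ (pt v)
      apply (π.symm.trans e.toEquiv).injective
      rw [hσ]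
      show e (π.symm _) = a * φ (e (π.symm (pt v))) + b
      rw [mul_smul, hact, htr, hπ, hπ, map_add, hh, e.apply_symm_apply, add_comm]


theorem affine_classification {G Ω : Type*} [Group G] [Finite G] [MulAction G Ω] [FaithfulSMul G Ω]
    [Fintype Ω] (hprim : MulAction.IsPreprimitive G Ω)
    (haff : ∃ N : Subgroup G, N.Normal ∧ N ≠ ⊥ ∧ IsMulCommutative ↥N)
    (hbin : ∀ (n : ℕ) (I J : Fin n → Ω), 2 ≤ n →
      (∀ i j : Fin n, i ≠ j → ∃ g : G, g • I i = J i ∧ g • I j = J j) → ∃ g : G, ∀ i, g • I i = J i) :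
    ((Fintype.card Ω).Prime ∧ ∀ ω : Ω, Nat.card ↥(MulAction.stabilizer G ω) ≤ 2) ∨
    (∃ (F E : Type) (_ : Field F) (_ : Fintype F) (_ : Field E) (_ : Fintype E) (_ : Algebra F E) (e : Ω ≃ E),
        Module.finrank F E = 2 ∧
        ∀ σ : Equiv.Perm Ω, σ ∈ (MulAction.toPermHom G Ω).range ↔
          ∃ (a b : E) (φ : E ≃ₐ[F] E), Algebra.norm F a = 1 ∧ ∀ ω : Ω, e (σ ω) = a * φ (e ω) + b) := by
  classical
  obtain ⟨N, hNn, hNbot, hNcomm⟩ := haff
  haveI := hprim
  haveI := hNn
  have hmove : ∀ n : G, n ≠ 1 → ∃ ω : Ω, n • ω ≠ ω := fun n hn => by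
    by_contra hno
    push Not at hno
    exact hn (eq_of_smul_eq_smul (α := Ω) fun ω => by rw [one_smul, hno ω])
  have htrans : ∀ M : Subgroup G, M.Normal → M ≠ ⊥ → MulAction.IsPretransitive M Ω := fun M hM hMb => by
    haveI := hM
    refine MulAction.IsQuasiPreprimitive.isPretransitive_of_normal fun hfix => hMb ?_
    refine (Subgroup.eq_bot_iff_forall M).2 fun m hm => ?_
    by_contra h1
    obtain ⟨ω, hω⟩ := hmove m h1
    have : ω ∈ MulAction.fixedPoints M Ω := hfix ▸ Set.mem_univ ω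
    exact hω (this ⟨m, hm⟩)
  haveI := htrans N hNn hNbot
  have hNc : ∀ a b : G, a ∈ N → b ∈ N → a * b = b * a := fun a b ha hb =>
    congrArg Subtype.val (hNcomm.is_comm.comm ⟨a, ha⟩ ⟨b, hb⟩)
  obtain ⟨n1, hn1, hn1'⟩ := (Subgroup.bot_or_exists_ne_one N).resolve_left hNbot
  obtain ⟨ω0, hω0⟩ := hmove n1 hn1'
  -- `N` is regular
  have hreg : ∀ {n : G}, n ∈ N → ∀ ω : Ω, n • ω = ω → n = 1 := fun {n} hn ω h =>
    eq_of_smul_eq_smul (α := Ω) fun ω' => by
      obtain ⟨⟨m, hm⟩, rfl⟩ := MulAction.exists_smul_eq N ω ω'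
      show n • m • ω = (1 : G) • m • ω
      rw [one_smul, ← mul_smul, hNc n m hn hm, mul_smul, h]
  -- and elementary abelian
  haveI : Nontrivial N := (Subgroup.nontrivial_iff_ne_bot N).2 hNbot
  obtain ⟨p, hp, hpdvd⟩ := Nat.exists_prime_and_dvd (Finite.one_lt_card (α := N)).ne'
  haveI : Fact p.Prime := ⟨hp⟩
  have hexp : ∀ n : N, n ^ p = 1 := by
    let M : Subgroup G :=
      { carrier := {n | n ∈ N ∧ n ^ p = 1}
        one_mem' := ⟨one_mem _, one_pow _⟩
        mul_mem' := fun {a b} ha hb => ⟨mul_mem ha.1 hb.1, by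
          rw [Commute.mul_pow (hNc a b ha.1 hb.1), ha.2, hb.2, one_mul]⟩
        inv_mem' := fun {a} ha => ⟨inv_mem ha.1, by rw [inv_pow, ha.2, inv_one]⟩ }
    have hM : M.Normal := ⟨fun a ha g => ⟨hNn.conj_mem a ha.1 g, by
      rw [conj_pow, ha.2, mul_one, mul_inv_cancel]⟩⟩
    have hMb : M ≠ ⊥ := fun h => by
      obtain ⟨x, hx⟩ := exists_prime_orderOf_dvd_card' p hpdvd
      have hx1 : (x : G) ∈ M := ⟨x.2, by rw [← SubmonoidClass.coe_pow, ← hx, pow_orderOf_eq_one]; rfl⟩
      rw [h, Subgroup.mem_bot] at hx1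
      rw [show x = 1 from Subtype.ext hx1, orderOf_one] at hx
      exact hp.ne_one hx.symm
    haveI := htrans M hM hMb
    intro n
    obtain ⟨⟨m, hm⟩, hmn⟩ := MulAction.exists_smul_eq M ω0 ((n : G) • ω0)
    have hmn' : m • ω0 = (n : G) • ω0 := hmn
    have := hreg (mul_mem (inv_mem n.2) hm.1) ω0 (by rw [mul_smul, hmn', inv_smul_smul])
    rw [inv_mul_eq_one] at this
    exact Subtype.ext (by rw [SubmonoidClass.coe_pow, this, hm.2]; rfl)
  -- `N` as a module
  obtain ⟨d, el, hadd, hbij⟩ :=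
    @exists_coordinates N { N.toGroup with mul_comm := hNcomm.is_comm.comm } _ p _ hexp
  exact affine_aux (V := Fin d → ZMod p) (p := p) hprim hbin N (fun {n} => hreg)
    (fun v => funext fun i => by simp) (fun v => ((el v : N) : G)) (fun v => (el v).2)
    (fun v w => congrArg Subtype.val (hadd v w))
    (fun v w h => hbij.1 (Subtype.ext h))
    (fun {n} hn => (hbij.2 ⟨n, hn⟩).imp fun v hv => congrArg Subtype.val hv) ⟨n1, hn1, ω0, hω0⟩

end CfsgLib.BinaryAffine
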